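/-
The spinor character in odd characteristic.
* `isSquare_det_skew` : determinants of skew matrices are squares
* `spin_eq_det` : `spin g = χ (det ((1 + g) / 2))` when `-1` is no eigenvalue
* `spin_transport` : invariance under orthogonal extension
-/
import Cfsg.Agent.Lib.Orth.Models
import Cfsg.Agent.Lib.GLOrder.Symplectic
import Cfsg.Agent.Lib.SympGeom.HalfIsotropic
import Cfsg.Agent.Lib.OrthOuter.SympDet

set_option autoImplicit false
set_option linter.unusedSectionVars false

namespace Cfsg.Agent.SpecOmNine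

open Module Matrix Cfsg.Agent.Orth Cfsg.Agent.GLOrder
open QuadraticMap (polar)

variable {F : Type*} [Field F]

theorem isSquare_det_skew (h2 : (2 : F) ≠ 0) {n : Type} [Fintype n] [DecidableEq n] (S : Matrix n n F)
    (hS : S.transpose = -S) (hd : S.det ≠ 0) : IsSquare S.det ∧ Even (Fintype.card n) := by
  have hev : Even (Fintype.card n) := by
    by_contra ho
    have h := congrArg Matrix.det hS
    rw [Matrix.det_transpose, Matrix.det_neg, (Nat.not_even_iff_odd.1 ho).neg_one_pow, neg_one_mul,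
      eq_neg_iff_add_eq_zero, ← two_mul] at h
    exact hd ((mul_eq_zero.1 h).resolve_left h2)
  refine ⟨?_, hev⟩
  obtain ⟨m, hm⟩ := hev
  let B : LinearMap.BilinForm F (n → F) := Matrix.toBilin' S
  have hB : ∀ x y, B x y = x ⬝ᵥ (S *ᵥ y) := fun x y => Matrix.toBilin'_apply' S x y
  have halt : ∀ x, B x x = 0 := fun x => by
    have h1 : x ⬝ᵥ (S *ᵥ x) = -(x ⬝ᵥ (S *ᵥ x)) := by
      conv_lhs => rw [Matrix.dotProduct_mulVec, ← Matrix.mulVec_transpose, hS, Matrix.neg_mulVec, dotProduct_comm,
        dotProduct_neg]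
    rw [eq_neg_iff_add_eq_zero, ← two_mul] at h1
    rw [hB]
    exact (mul_eq_zero.1 h1).resolve_left h2
  have hnd : B.Nondegenerate := Matrix.nondegenerate_toBilin'_iff.2 (Matrix.nondegenerate_of_det_ne_zero hd)
  obtain ⟨t⟩ := nonempty_frame m B halt hnd.1 (by simp [hm, two_mul])
  obtain ⟨h1, h2', h3⟩ := t.2
  have hswap : ∀ i j, B (t.1.2 i) (t.1.1 j) = -(if j = i then 1 else 0) := fun i j => by rw [alt_swap halt, h3]
  let v : Fin m ⊕ Fin m → (n → F) := Sum.elim t.1.1 t.1.2
  have hli : LinearIndependent F v := by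
    rw [Fintype.linearIndependent_iff]
    intro c hc k
    have key : ∀ y, ∑ i, c i * B (v i) y = 0 := fun y => by
      have := LinearMap.congr_fun (congrArg B hc) y
      simpa using this
    rcases k with k | k
    · have := key (t.1.2 k)
      simpa [v, Fintype.sum_sum_type, h3, h2'] using this
    · have := key (t.1.1 k)
      simpa [v, Fintype.sum_sum_type, h1, hswap] using this
  let c : Basis (Fin m ⊕ Fin m) F (n → F) :=
    basisOfLinearIndependentOfCardEqFinrank' v hli (by simp [hm])
  have hc : ∀ i, c i = v i := fun i => by simp [c]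
  have hJ : LinearMap.BilinForm.toMatrix c B = -(Matrix.J (Fin m) F) := by
    ext i j
    rw [LinearMap.BilinForm.toMatrix_apply, hc, hc]
    rcases i with i | i <;> rcases j with j | j <;>
      simp [v, Matrix.J, Matrix.one_apply, h1, h2', h3, hswap, eq_comm]
  obtain ⟨s, hs, hdet⟩ := SympGeom.det_change B (Pi.basisFun F n) c
  rw [hJ, OrthOuter.det_J_eq_one] at hdet
  have hS' : LinearMap.BilinForm.toMatrix (Pi.basisFun F n) B = S := by
    rw [LinearMap.BilinForm.toMatrix_basisFun]
    exact LinearMap.BilinForm.toMatrix'_toBilin' S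
  rw [hS'] at hdet
  exact ⟨s⁻¹, by field_simp; linear_combination -hdet⟩

variable [Fintype F] {ι : Type} [Fintype ι] [DecidableEq ι] {Q : QuadraticForm F (ι → F)}

open Classical in
theorem spin_eq_det (hG : Good Q) (h2 : (2 : F) ≠ 0) (g : IsoGrp Q)
    (hd : (1 + ((g : GL ι F) : Matrix ι ι F)).det ≠ 0) :
    spin g = quadraticChar F ((1 + ((g : GL ι F) : Matrix ι ι F)).det * 2 ^ Fintype.card ι) ∧ dick g = 1 := by
  set G := ((g : GL ι F) : Matrix ι ι F) with hGdef
  set C := (1 + G)⁻¹ with hC
  have hu : IsUnit (1 + G).det := isUnit_iff_ne_zero.2 hd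
  set K := (G - 1) * C with hK
  have hCG : C * (1 + G) = 1 := Matrix.nonsing_inv_mul _ hu
  have hGC : (1 + G) * C = 1 := Matrix.mul_nonsing_inv _ hu
  have h1K : 1 - K = (2 : F) • C := by
    rw [hK]
    calc 1 - (G - 1) * C = (1 + G) * C - (G - 1) * C := by rw [hGC]
      _ = _ := by rw [← sub_mul, two_smul, show 1 + G - (G - 1) = 1 + 1 by abel, add_mul, one_mul]
  set k := finrank F (resSpace g) with hk
  set w : Fin k → ι → F := fun i => ((Module.finBasis F (resSpace g) i : ι → F)) with hw
  have hind : LinearIndependent F w :=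
    (Module.finBasis F (resSpace g)).linearIndependent.map' (resSpace g).subtype (Submodule.ker_subtype _)
  have hspan : Submodule.span F (Set.range w) = resSpace g := by
    have := congrArg (Submodule.map (resSpace g).subtype) (Module.finBasis F (resSpace g)).span_eq
    rwa [Submodule.map_span, Submodule.map_top, Submodule.range_subtype, ← Set.range_comp] at this
  choose x hx using fun i => mem_resSpace.1 (Module.finBasis F (resSpace g) i).2
  set z : Fin k → ι → F := fun i => (1 + G) *ᵥ x i with hz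
  have hsub : ∀ y, ap g y - y = (G - 1) *ᵥ y := fun y => by
    rw [ap_apply, Matrix.sub_mulVec, Matrix.one_mulVec]
  have hzK : ∀ i, K *ᵥ z i = w i := fun i => by
    rw [hz, Matrix.mulVec_mulVec, hK, mul_assoc, hCG, mul_one, ← hsub, hx i]
  have hxz : ∀ i, x i = (2 : F)⁻¹ • ((1 - K) *ᵥ z i) := fun i => by
    rw [h1K, Matrix.smul_mulVec, smul_smul, inv_mul_cancel₀ h2, one_smul, hz, Matrix.mulVec_mulVec, hCG,
      Matrix.one_mulVec]
  have hskew : ∀ y y', polar ⇑Q (K *ᵥ y) y' + polar ⇑Q y (K *ᵥ y') = 0 := by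
    intro y y'
    obtain ⟨u, hu'⟩ : ∃ u, (1 + G) *ᵥ u = y := ⟨C *ᵥ y, by rw [Matrix.mulVec_mulVec, hGC, Matrix.one_mulVec]⟩
    obtain ⟨u', hu''⟩ : ∃ u', (1 + G) *ᵥ u' = y' := ⟨C *ᵥ y', by rw [Matrix.mulVec_mulVec, hGC, Matrix.one_mulVec]⟩
    have e : ∀ u, K *ᵥ ((1 + G) *ᵥ u) = ap g u - u := fun u => by
      rw [Matrix.mulVec_mulVec, hK, mul_assoc, hCG, mul_one, ← hsub]
    have e' : ∀ u, (1 + G) *ᵥ u = u + ap g u := fun u => by rw [Matrix.add_mulVec, Matrix.one_mulVec, ap_apply]
    rw [← hu', ← hu'', e, e, e', e']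
    simp only [pl_sub_left, pl_sub_right, pl_add_left, pl_add_right, polar_ap]
    ring
  set U : Matrix (Fin k) ι F := Matrix.of fun l j =>
    (Module.finBasis F (resSpace g)).repr ⟨K *ᵥ Pi.single j 1, by
      rw [hK, ← Matrix.mulVec_mulVec, ← hsub]; exact sub_mem_resSpace g _⟩ l with hU
  set Wm : Matrix ι (Fin k) F := Matrix.of fun i l => w l i with hWm
  have hKU : K = Wm * U := by
    ext i j
    have h := congrArg (fun v : resSpace g => (v : ι → F) i)
      ((Module.finBasis F (resSpace g)).sum_repr ⟨K *ᵥ Pi.single j 1, by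
        rw [hK, ← Matrix.mulVec_mulVec, ← hsub]; exact sub_mem_resSpace g _⟩)
    simp only [Submodule.coe_sum, Submodule.coe_smul, Finset.sum_apply, Pi.smul_apply, smul_eq_mul] at h
    rw [Matrix.mul_apply]
    refine Eq.trans (by simp [Matrix.mulVec_single_one]) (h.symm.trans ?_)
    exact Finset.sum_congr rfl fun l _ => mul_comm _ _
  set P := U * Wm with hP
  have hKw : ∀ j, K *ᵥ w j = ∑ l, P l j • w l := fun j => by
    ext i
    rw [hKU, ← Matrix.mulVec_mulVec, Finset.sum_apply]
    simp [Matrix.mulVec, dotProduct, hWm, hP, Matrix.mul_apply, mul_comm]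
  set S := wallMat Q w z with hS
  have hST : S.transpose = -S := by
    ext i j
    have h := hskew (z i) (z j)
    rw [hzK, hzK, pl_comm Q (z i)] at h
    show polar ⇑Q (w j) (z i) = -polar ⇑Q (w i) (z j)
    linear_combination h
  have hA : wallMat Q w x = (2 : F)⁻¹ • (S * (1 - P)) := by
    ext i j
    have hT : polar ⇑Q (w i) (w j) = ∑ l, S i l * P l j := by
      have h := hskew (z i) (w j)
      rw [hzK, hKw] at h
      have hl : polar ⇑Q (z i) (∑ l, P l j • w l) = ∑ l, P l j * polar ⇑Q (z i) (w l) := by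
        show Q.polarBilin (z i) (∑ l, P l j • w l) = _
        simp [map_sum, map_smul]
      rw [hl] at h
      have hneg : ∀ l, S i l * P l j = -(P l j * polar ⇑Q (z i) (w l)) := fun l => by
        have := congrFun (congrFun hST l) i
        rw [Matrix.transpose_apply, Matrix.neg_apply] at this
        rw [this, pl_comm Q (z i)]
        show -polar ⇑Q (w l) (z i) * P l j = _
        ring
      rw [Finset.sum_congr rfl fun l _ => hneg l, Finset.sum_neg_distrib]
      linear_combination h
    show polar ⇑Q (w i) (x j) = _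
    rw [hxz j, pl_smul_right, Matrix.sub_mulVec, Matrix.one_mulVec, hzK, pl_sub_right, hT,
      show S * (1 - P) = S - S * P by rw [Matrix.mul_sub, Matrix.mul_one]]
    simp [Matrix.mul_apply, hS, wallMat]
  have hdet : (1 - P).det * (1 + G).det = 2 ^ Fintype.card ι := by
    rw [hP, Matrix.det_one_sub_mul_comm, ← hKU, h1K, Matrix.det_smul, hC, Matrix.det_nonsing_inv, mul_assoc,
      Ring.inverse_mul_cancel _ hu, mul_one]
  have hsp := spin_eq w x hind hspan hx
  rw [hA, Matrix.det_smul, Matrix.det_mul, Fintype.card_fin] at hsp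
  have hS0 : S.det ≠ 0 := fun h0 => by
    rw [h0] at hsp
    rcases spin_eq_or hG g with h | h <;> rw [h] at hsp <;> simp at hsp
  obtain ⟨⟨s, hs⟩, hev⟩ := isSquare_det_skew h2 S hST hS0
  rw [Fintype.card_fin] at hev
  refine ⟨?_, by rw [dick, ← hk, hev.neg_one_pow]⟩
  rw [hsp, hs]
  obtain ⟨r, hr⟩ := hev
  have hPd : (1 - P).det = 2 ^ Fintype.card ι / (1 + G).det := by rw [← hdet, mul_div_cancel_right₀ _ hd]
  rw [show ((-1 : F) ^ k * ((2 : F)⁻¹ ^ k * (s * s * (1 - P).det))) =
      ((-(2 : F)⁻¹) ^ r * s / (1 + G).det) ^ 2 * ((1 + G).det * 2 ^ Fintype.card ι) by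
    rw [hPd, hr]; field_simp; ring]
  rw [map_mul, quadraticChar_sq_one', one_mul]
  refine div_ne_zero (mul_ne_zero (pow_ne_zero _ (neg_ne_zero.2 (inv_ne_zero h2))) ?_) hd
  rintro rfl
  exact hS0 (by rw [hs, mul_zero])

variable {κ : Type} [Fintype κ] [DecidableEq κ] {Q' : QuadraticForm F (κ → F)}

open Classical in
theorem spin_transport (ψ : (ι → F) →ₗ[F] (κ → F)) (hψ : Function.Injective ψ) (hQ : ∀ x, Q' (ψ x) = Q x)
    (g : IsoGrp Q) (g' : IsoGrp Q') (hg : ∀ x, ap g' (ψ x) = ψ (ap g x))
    (hres : resSpace g' ≤ (resSpace g).map ψ) : spin g' = spin g ∧ dick g' = dick g := by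
  have heq : resSpace g' = (resSpace g).map ψ := by
    refine le_antisymm hres ?_
    rintro _ ⟨y, hy, rfl⟩
    obtain ⟨x, rfl⟩ := mem_resSpace.1 hy
    exact mem_resSpace.2 ⟨ψ x, by rw [hg, map_sub]⟩
  set k := finrank F (resSpace g) with hk
  set w : Fin k → ι → F := fun i => ((Module.finBasis F (resSpace g) i : ι → F)) with hw
  have hind : LinearIndependent F w :=
    (Module.finBasis F (resSpace g)).linearIndependent.map' (resSpace g).subtype (Submodule.ker_subtype _)
  have hspan : Submodule.span F (Set.range w) = resSpace g := by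
    have := congrArg (Submodule.map (resSpace g).subtype) (Module.finBasis F (resSpace g)).span_eq
    rwa [Submodule.map_span, Submodule.map_top, Submodule.range_subtype, ← Set.range_comp] at this
  choose x hx using fun i => mem_resSpace.1 (Module.finBasis F (resSpace g) i).2
  refine ⟨?_, ?_⟩
  · rw [spin_eq w x hind hspan hx, spin_eq (g := g') (ψ ∘ w) (ψ ∘ x) (hind.map' ψ (LinearMap.ker_eq_bot.2 hψ))
      (by rw [heq, ← hspan, Submodule.map_span, Set.range_comp])
      (fun i => by simp only [Function.comp_apply]; rw [hg, ← map_sub, hx i])]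
    have : wallMat Q' (ψ ∘ w) (ψ ∘ x) = wallMat Q w x := by
      ext i j
      show polar ⇑Q' (ψ (w i)) (ψ (x j)) = polar ⇑Q (w i) (x j)
      simp only [polar, ← map_add, hQ]
    rw [this]
  · rw [dick, dick, heq, (Submodule.equivMapOfInjective ψ hψ _).symm.finrank_eq]

end Cfsg.Agent.SpecOmNine
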