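/-
Classes of a self-dual set of roots, with their representatives.
* `exists_classes` : decomposition into classes
* `orbit_prod_pow` : the quadratic character of `∏ (1 + x)` over a class
-/
import Cfsg.Agent.EqLemmas

set_option autoImplicit false
set_option linter.unusedSectionVars false

namespace Cfsg.Agent.SpecOmNine

/-- `(j, true)` stands for `q ^ j + 1`, `(j, false)` for `q ^ j - 1`. -/
abbrev Atom := ℕ × Bool

/-- The number of an atom. -/
def atomVal (q : ℕ) (c : Atom) : ℕ := if c.2 then q ^ c.1 + 1 else q ^ c.1 - 1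

/-- A class: atom, multiplicity, representative. -/
abbrev Cls (K : Type*) := (Atom × ℕ) × K

variable {K : Type*} [Field K] {q : ℕ}

/-- The product of `f` over the class of `c`. -/
def clsProd (q : ℕ) (f : K → K) (c : Cls K) : K :=
  ∏ i ∈ Finset.range c.1.1.1, f (c.2 ^ q ^ i) * f ((c.2 ^ q ^ i)⁻¹)

/-- The weight of a class list. -/
def wt (l : List (Atom × ℕ)) : ℕ := (l.map fun c => c.1.1 * c.2).sum

variable [DecidableEq K]

theorem exists_orbit {S : Finset K} (hinv : ∀ x ∈ S, x⁻¹ ∈ S) (hfr : ∀ x ∈ S, x ^ q ∈ S)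
    (hinj : Function.Injective fun x : K => x ^ q) {α : K} (hα : α ∈ S) (h0 : α ≠ 0) (hne : α⁻¹ ≠ α)
    (hper : ∃ k, 0 < k ∧ α ^ q ^ k = α) :
    ∃ (j : ℕ) (sg : Bool), 1 ≤ j ∧ α ^ atomVal q (j, sg) = 1 ∧
      (α ^ q ^ j = if sg then α⁻¹ else α) ∧
      ∃ C : Finset K, C ⊆ S ∧ α ∈ C ∧ C.card = 2 * j ∧ (∀ x ∈ C, x⁻¹ ∈ C) ∧ (∀ x ∈ C, x ^ q ∈ C) ∧
        (∀ f : K → K, ∏ x ∈ C, f x = ∏ i ∈ Finset.range j, f (α ^ q ^ i) * f ((α ^ q ^ i)⁻¹)) ∧
        ∀ x ∈ C, ∀ N : ℕ, α ^ N = 1 → x ^ N = 1 := by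
  have hex : ∃ k, 0 < k ∧ (α ^ q ^ k = α ∨ α ^ q ^ k = α⁻¹) := hper.imp fun k h => ⟨h.1, Or.inl h.2⟩
  set j := Nat.find hex
  obtain ⟨hj, hjα⟩ := Nat.find_spec hex
  have hmin : ∀ k, 0 < k → k < j → α ^ q ^ k ≠ α ∧ α ^ q ^ k ≠ α⁻¹ := fun k hk hkj => by
    have := Nat.find_min hex hkj
    simp only [hk, true_and, not_or] at this
    exact this
  have hq0 : q ≠ 0 := fun h => zero_ne_one (hinj (show (0 : K) ^ q = 1 ^ q by subst h; simp))
  have hinjk : ∀ k, Function.Injective fun x : K => x ^ q ^ k := by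
    intro k
    induction k with
    | zero => intro x y h; simpa using h
    | succ k ih =>
      intro x y h
      simp only [pow_succ, pow_mul] at h
      exact ih (hinj h)
  have hmem : ∀ i, α ^ q ^ i ∈ S := by
    intro i
    induction i with
    | zero => simpa using hα
    | succ i ih => rw [pow_succ, pow_mul]; exact hfr _ ih
  let O : Finset K := (Finset.range j).image fun i => α ^ q ^ i
  let O' : Finset K := (Finset.range j).image fun i => (α ^ q ^ i)⁻¹
  have key : ∀ a b, a ≤ b → b < j → (α ^ q ^ a = α ^ q ^ b → a = b) ∧ (α ^ q ^ a ≠ (α ^ q ^ b)⁻¹) := by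
    intro a b hab hb
    obtain ⟨d, rfl⟩ := Nat.exists_eq_add_of_le hab
    have hpow : α ^ q ^ (a + d) = (α ^ q ^ d) ^ q ^ a := by rw [← pow_mul, ← pow_add, add_comm a d]
    rw [hpow]
    refine ⟨fun h => ?_, fun h => ?_⟩
    · by_contra hd
      exact (hmin d (by omega) (by omega)).1 (hinjk a h).symm
    · rw [← inv_pow] at h
      rcases Nat.eq_zero_or_pos d with rfl | hd
      · have := hinjk a h
        simp only [pow_zero, pow_one] at this
        exact hne this.symm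
      · exact (hmin d hd (by omega)).2 ((inv_inv _).symm.trans (congrArg (·⁻¹) (hinjk a h).symm))
  have hinjO : Set.InjOn (fun i => α ^ q ^ i) (Finset.range j : Set ℕ) := by
    intro a ha b hb h
    simp only [Finset.coe_range, Set.mem_Iio] at ha hb
    rcases le_total a b with hab | hab
    · exact (key a b hab hb).1 h
    · exact ((key b a hab ha).1 h.symm).symm
  have hinjO' : Set.InjOn (fun i => (α ^ q ^ i)⁻¹) (Finset.range j : Set ℕ) :=
    fun a ha b hb h => hinjO ha hb (inv_injective h)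
  have hdisj : Disjoint O O' := by
    rw [Finset.disjoint_left]
    intro x hx hx'
    obtain ⟨a, ha, rfl⟩ := Finset.mem_image.1 hx
    obtain ⟨b, hb, hab⟩ := Finset.mem_image.1 hx'
    rw [Finset.mem_range] at ha hb
    rcases le_total a b with h | h
    · exact (key a b h hb).2 hab.symm
    · exact (key b a h ha).2 (by rw [← hab, inv_inv])
  obtain ⟨sg, hsg⟩ : ∃ sg : Bool, α ^ q ^ j = if sg then α⁻¹ else α := by
    rcases hjα with h | h
    · exact ⟨false, h⟩
    · exact ⟨true, h⟩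
  have hα0 : 0 ∈ Finset.range j := Finset.mem_range.2 hj
  have hαj : α ^ atomVal q (j, sg) = 1 := by
    unfold atomVal
    cases sg
    · simp only [Bool.false_eq_true, if_false] at hsg ⊢
      apply mul_right_cancel₀ h0
      rw [← pow_succ, Nat.sub_add_cancel (Nat.one_le_pow _ _ (Nat.pos_of_ne_zero hq0)), one_mul, hsg]
    · simp only [if_true] at hsg ⊢
      rw [pow_succ, hsg, inv_mul_cancel₀ h0]
  refine ⟨j, sg, hj, hαj, hsg, O ∪ O', Finset.union_subset ?_ ?_, Finset.mem_union_left _ ?_, ?_, ?_, ?_, ?_, ?_⟩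
  · exact fun x hx => by obtain ⟨i, -, rfl⟩ := Finset.mem_image.1 hx; exact hmem i
  · exact fun x hx => by obtain ⟨i, -, rfl⟩ := Finset.mem_image.1 hx; exact hinv _ (hmem i)
  · exact Finset.mem_image.2 ⟨0, hα0, by simp⟩
  · rw [Finset.card_union_of_disjoint hdisj, Finset.card_image_of_injOn hinjO, Finset.card_image_of_injOn hinjO',
      Finset.card_range, two_mul]
  · intro x hx
    rcases Finset.mem_union.1 hx with h | h <;> obtain ⟨i, hi, rfl⟩ := Finset.mem_image.1 h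
    · exact Finset.mem_union_right _ (Finset.mem_image.2 ⟨i, hi, rfl⟩)
    · exact Finset.mem_union_left _ (Finset.mem_image.2 ⟨i, hi, by simp⟩)
  · have hnext : ∀ i < j, α ^ q ^ (i + 1) ∈ O ∪ O' := fun i hi => by
      rcases Nat.lt_or_ge (i + 1) j with h | h
      · exact Finset.mem_union_left _ (Finset.mem_image.2 ⟨i + 1, Finset.mem_range.2 h, rfl⟩)
      · rw [show i + 1 = j by omega, hsg]
        cases sg
        · exact Finset.mem_union_left _ (Finset.mem_image.2 ⟨0, hα0, by simp⟩)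
        · exact Finset.mem_union_right _ (Finset.mem_image.2 ⟨0, hα0, by simp⟩)
    intro x hx
    rcases Finset.mem_union.1 hx with h | h <;> obtain ⟨i, hi, rfl⟩ := Finset.mem_image.1 h <;>
      rw [Finset.mem_range] at hi
    · rw [← pow_mul, ← pow_succ]; exact hnext i hi
    · rw [inv_pow, ← pow_mul, ← pow_succ]
      have h' := hnext i hi
      rcases Finset.mem_union.1 h' with h'' | h'' <;> obtain ⟨k, hk, he⟩ := Finset.mem_image.1 h''
      · exact Finset.mem_union_right _ (Finset.mem_image.2 ⟨k, hk, congrArg (·⁻¹) he⟩)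
      · exact Finset.mem_union_left _ (Finset.mem_image.2 ⟨k, hk, by rw [← he, inv_inv]⟩)
  · intro f
    rw [Finset.prod_union hdisj, Finset.prod_image hinjO, Finset.prod_image hinjO', ← Finset.prod_mul_distrib]
  · intro x hx N hN
    rcases Finset.mem_union.1 hx with h | h <;> obtain ⟨i, -, rfl⟩ := Finset.mem_image.1 h
    · rw [← pow_mul, mul_comm, pow_mul, hN, one_pow]
    · rw [inv_pow, ← pow_mul, mul_comm, pow_mul, hN, one_pow, inv_one]

/-- The classes of the roots. -/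
theorem exists_classes (cnt : K → ℕ) (hinj : Function.Injective fun x : K => x ^ q)
    (hper : ∀ x : K, ∃ k, 0 < k ∧ x ^ q ^ k = x) (hinvc : ∀ x, cnt x⁻¹ = cnt x)
    (hfrc : ∀ x, cnt (x ^ q) = cnt x) :
    ∀ (n : ℕ) (S : Finset K), S.card = n → (∀ x ∈ S, x⁻¹ ∈ S) → (∀ x ∈ S, x ^ q ∈ S) →
      (∀ x ∈ S, x ≠ 0 ∧ x⁻¹ ≠ x ∧ 1 ≤ cnt x) →
      ∃ l : List (Cls K), (∀ c ∈ l, 1 ≤ c.1.1.1 ∧ 1 ≤ c.1.2 ∧ c.2 ≠ 0 ∧ c.2 ^ atomVal q c.1.1 = 1 ∧
          c.2 ^ q ^ c.1.1.1 = if c.1.1.2 then c.2⁻¹ else c.2) ∧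
        ∑ x ∈ S, cnt x = 2 * wt (l.map (·.1)) ∧
        (∀ f : K → K, ∏ x ∈ S, f x ^ cnt x = (l.map fun c => clsProd q f c ^ c.1.2).prod) ∧
        ∀ x ∈ S, ∃ c ∈ l, cnt x ≤ c.1.2 ∧ ∀ N : ℕ, c.2 ^ N = 1 → x ^ N = 1 := by
  intro n
  induction n using Nat.strong_induction_on with
  | _ n ih =>
    intro S hn hinv hfr hne
    rcases S.eq_empty_or_nonempty with rfl | ⟨α, hα⟩
    · exact ⟨[], by simp, by simp [wt], by simp, by simp⟩
    set S₁ := S.filter fun x => cnt x = cnt α with hS₁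
    obtain ⟨j, sg, hj, hαj, hsg, C, hCS, hαC, hCcard, hCinv, hCfr, hCprod, hCN⟩ := exists_orbit (S := S₁) (q := q)
      (fun x hx => Finset.mem_filter.2 ⟨hinv x (Finset.mem_filter.1 hx).1,
        (hinvc x).trans (Finset.mem_filter.1 hx).2⟩)
      (fun x hx => Finset.mem_filter.2 ⟨hfr x (Finset.mem_filter.1 hx).1,
        (hfrc x).trans (Finset.mem_filter.1 hx).2⟩)
      hinj (Finset.mem_filter.2 ⟨hα, rfl⟩) (hne α hα).1 (hne α hα).2.1 (hper α)
    have hCS' : C ⊆ S := hCS.trans (Finset.filter_subset _ _)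
    have hsub : (S \ C).card + C.card = S.card := Finset.card_sdiff_add_card_eq_card hCS'
    have hfr' : ∀ x ∈ S \ C, x ^ q ∈ S \ C := by
      intro x hx
      rw [Finset.mem_sdiff] at hx ⊢
      refine ⟨hfr x hx.1, fun h => ?_⟩
      have himg : C.image (fun y => y ^ q) = C := Finset.eq_of_subset_of_card_le
        (fun y hy => by obtain ⟨z, hz, rfl⟩ := Finset.mem_image.1 hy; exact hCfr z hz)
        (by rw [Finset.card_image_of_injective _ hinj])
      rw [← himg] at h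
      obtain ⟨z, hz, hzx⟩ := Finset.mem_image.1 h
      exact hx.2 (hinj hzx ▸ hz)
    have hinv' : ∀ x ∈ S \ C, x⁻¹ ∈ S \ C := by
      intro x hx
      rw [Finset.mem_sdiff] at hx ⊢
      exact ⟨hinv x hx.1, fun h => hx.2 (by simpa using hCinv _ h)⟩
    obtain ⟨l, hl, hw, hlp, hlx⟩ := ih (S \ C).card (by omega) (S \ C) rfl hinv' hfr'
      (fun x hx => hne x (Finset.mem_sdiff.1 hx).1)
    refine ⟨(((j, sg), cnt α), α) :: l, ?_, ?_, fun f => ?_, fun x hx => ?_⟩
    · intro c hc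
      rcases List.mem_cons.1 hc with rfl | hc
      · exact ⟨hj, (hne α hα).2.2, (hne α hα).1, hαj, hsg⟩
      · exact hl c hc
    · rw [← Finset.sum_sdiff hCS', Finset.sum_congr rfl fun x hx => (Finset.mem_filter.1 (hCS hx)).2,
        Finset.sum_const, hCcard, smul_eq_mul, hw]
      simp only [wt, List.map_cons, List.sum_cons]
      ring
    · rw [← Finset.prod_sdiff hCS', hlp, List.map_cons, List.prod_cons, mul_comm]
      congr 1
      rw [Finset.prod_congr rfl fun x hx => by rw [(Finset.mem_filter.1 (hCS hx)).2], Finset.prod_pow, hCprod]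
      rfl
    · by_cases hxC : x ∈ C
      · exact ⟨_, List.mem_cons_self, (Finset.mem_filter.1 (hCS hxC)).2.le, hCN x hxC⟩
      · obtain ⟨c, hc, hc'⟩ := hlx x (Finset.mem_sdiff.2 ⟨hx, hxC⟩)
        exact ⟨c, List.mem_cons_of_mem _ hc, hc'⟩

/-- `∏ (1 + x)` over a class, raised to `(q - 1) / 2`. -/
theorem orbit_prod_pow (hadd : ∀ x y : K, (x + y) ^ q = x ^ q + y ^ q) (hq : Odd q) {j : ℕ} (hj : 1 ≤ j) (sg : Bool)
    {l : K} (h0 : l ≠ 0) (hl : l ^ q ^ j = if sg then l⁻¹ else l)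
    (hne : ∀ i < j, 1 + l ^ q ^ i ≠ 0) :
    (∏ i ∈ Finset.range j, (1 + l ^ q ^ i) * (1 + (l ^ q ^ i)⁻¹)) ^ (q / 2) *
      l ^ (atomVal q (j, sg) / 2) = 1 := by
  obtain ⟨h, rfl⟩ := hq
  set y := ∏ i ∈ Finset.range j, (1 + l ^ (2 * h + 1) ^ i) with hy
  set z := ∏ i ∈ Finset.range j, l ^ (2 * h + 1) ^ i with hz
  have hy0 : y ≠ 0 := Finset.prod_ne_zero_iff.2 fun i hi => hne i (Finset.mem_range.1 hi)
  have hz0 : z ≠ 0 := Finset.prod_ne_zero_iff.2 fun i _ => pow_ne_zero _ h0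
  have hP : ∏ i ∈ Finset.range j, (1 + l ^ (2 * h + 1) ^ i) * (1 + (l ^ (2 * h + 1) ^ i)⁻¹) = y * y / z := by
    rw [eq_div_iff hz0, hy, hz, ← Finset.prod_mul_distrib, ← Finset.prod_mul_distrib]
    refine Finset.prod_congr rfl fun i _ => ?_
    have := pow_ne_zero ((2 * h + 1) ^ i) h0
    field_simp
    ring
  have hyq : y ^ (2 * h) * (if sg then l else 1) = 1 := by
    have h1 : y ^ (2 * h + 1) * (1 + l) = y * (1 + l ^ (2 * h + 1) ^ j) := by
      rw [hy, ← Finset.prod_pow]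
      have e : ∀ i, (1 + l ^ (2 * h + 1) ^ i) ^ (2 * h + 1) = 1 + l ^ (2 * h + 1) ^ (i + 1) := fun i => by
        rw [hadd, one_pow, ← pow_mul, ← pow_succ]
      rw [Finset.prod_congr rfl fun i _ => e i]
      have := (Finset.prod_range_succ' (fun i => 1 + l ^ (2 * h + 1) ^ i) j).symm.trans
        (Finset.prod_range_succ (fun i => 1 + l ^ (2 * h + 1) ^ i) j)
      simpa using this
    have hl1 : (1 : K) + l ≠ 0 := by simpa using hne 0 hj
    rw [hl] at h1
    cases sg
    · simp only [Bool.false_eq_true, if_false, mul_one] at h1 ⊢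
      exact mul_left_cancel₀ (mul_ne_zero hy0 hl1) (by rw [mul_one]; linear_combination h1)
    · simp only [if_true] at h1 ⊢
      refine mul_left_cancel₀ (mul_ne_zero hy0 hl1) ?_
      rw [mul_one]
      calc y * (1 + l) * (y ^ (2 * h) * l) = y ^ (2 * h + 1) * (1 + l) * l := by ring
        _ = y * (1 + l⁻¹) * l := by rw [h1]
        _ = y * (1 + l) := by field_simp; ring
  have hzq : z ^ h = l ^ (((2 * h + 1) ^ j - 1) / 2) := by
    have hg := geom_sum_mul_add (2 * h) j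
    rw [hz, Finset.prod_pow_eq_pow_sum, ← pow_mul]
    congr 1
    rw [show 2 * h + 1 = 1 + 2 * h by ring] at *
    rw [← hg, Nat.add_sub_cancel, show ∀ s, s * (2 * h) = s * h * 2 from fun s => by ring, Nat.mul_div_cancel _ two_pos]
  rw [hP, show (2 * h + 1) / 2 = h by omega, div_pow, ← pow_two, ← pow_mul, hzq]
  have hodd : Odd ((2 * h + 1) ^ j) := (odd_two_mul_add_one h).pow
  obtain ⟨m, hm⟩ := hodd
  have hexp : l ^ (atomVal (2 * h + 1) (j, sg) / 2) = l ^ (((2 * h + 1) ^ j - 1) / 2) * if sg then l else 1 := by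
    unfold atomVal
    cases sg
    · simp
    · simp only [if_true]
      rw [← pow_succ]
      congr 1
      omega
  rw [hexp, div_mul_eq_mul_div, mul_left_comm, mul_div_assoc, hyq]
  rw [one_div, mul_inv_cancel₀ (pow_ne_zero _ h0)]

end Cfsg.Agent.SpecOmNine
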