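/-
The table of maximal orders in dimension nine, odd characteristic.
* `table`, `val` : the entries and their numbers
* `cover` : every configuration of classes is covered
-/
import Cfsg.Agent.Lib.SpecOmNine.Orbit

set_option autoImplicit false
set_option linter.unusedSectionVars false

namespace Cfsg.Agent.SpecOmNine

/-- Torus factors, halved or not, and a bound for the unipotent blocks. -/
structure Entry where
  /-- torus factors -/
  atoms : List Atom
  /-- half of the torus number (the number two for no factor) -/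
  half : Bool
  /-- the block bound -/
  b : ℕ
  deriving DecidableEq

/-- The entries. -/
def table : List Entry :=
  [⟨[(4, true)], true, 1⟩, ⟨[(2, true), (2, false)], false, 1⟩,
   ⟨[(3, true), (1, false)], false, 1⟩, ⟨[(3, false), (1, true)], false, 1⟩,
   ⟨[(3, true)], true, 3⟩, ⟨[(3, false)], true, 3⟩,
   ⟨[(2, true), (1, true)], false, 3⟩, ⟨[(2, true), (1, false)], false, 3⟩, ⟨[(2, false), (1, false)], false, 3⟩,
   ⟨[(2, true)], true, 5⟩, ⟨[(1, true), (1, false)], false, 5⟩,
   ⟨[(1, true)], true, 7⟩, ⟨[(1, false)], true, 7⟩, ⟨[], true, 7⟩, ⟨[], false, 9⟩]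

/-- The semisimple part of the number of an entry. -/
def rPart (q : ℕ) (N : Entry) : ℕ :=
  if N.half then (if N.atoms = [] then 2 else (N.atoms.map (atomVal q)).foldr Nat.lcm 1 / 2)
  else (N.atoms.map (atomVal q)).foldr Nat.lcm 1

/-- The number of an entry. -/
def val (q p : ℕ) (N : Entry) : ℕ := rPart q N * p ^ Nat.clog p N.b

/-- The number of `a` is a multiple of that of `c`. -/
def covA (c a : Atom) : Bool :=
  if c.2 then (if a.2 then decide (c.1 ∣ a.1 ∧ a.1 / c.1 % 2 = 1) else decide (2 * c.1 ∣ a.1))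
  else (if a.2 then false else decide (c.1 ∣ a.1))

/-- All class lists of weight at most `r`. -/
def allLists : ℕ → ℕ → List (List (Atom × ℕ))
  | 0, _ => [[]]
  | fuel + 1, r => [] :: (List.range r).flatMap fun j => (List.range r).flatMap fun m =>
      if (j + 1) * (m + 1) ≤ r then
        (allLists fuel (r - (j + 1) * (m + 1))).flatMap fun l =>
          [((j + 1, true), m + 1) :: l, ((j + 1, false), m + 1) :: l]
      else []

theorem mem_allLists : ∀ (fuel r : ℕ) (l : List (Atom × ℕ)), r ≤ fuel → wt l ≤ r →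
    (∀ c ∈ l, 1 ≤ c.1.1 ∧ 1 ≤ c.2) → l ∈ allLists fuel r := by
  intro fuel
  induction fuel with
  | zero =>
    intro r l hr hw hl
    rcases l with _ | ⟨c, l⟩
    · simp [allLists]
    · obtain ⟨h1, h2⟩ := hl c List.mem_cons_self
      have := Nat.mul_pos h1 h2
      simp only [wt, List.map_cons, List.sum_cons] at hw
      omega
  | succ fuel ih =>
    intro r l hr hw hl
    rcases l with _ | ⟨⟨⟨j, s⟩, m⟩, l⟩
    · simp [allLists]
    · obtain ⟨h1, h2⟩ := hl _ List.mem_cons_self
      simp only [wt, List.map_cons, List.sum_cons] at hw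
      simp only at h1 h2
      obtain ⟨j, rfl⟩ := Nat.exists_eq_add_of_le' h1
      obtain ⟨m, rfl⟩ := Nat.exists_eq_add_of_le' h2
      have hpos : 1 ≤ (j + 1) * (m + 1) := Nat.mul_pos (by omega) (by omega)
      have hj : j < r := by have := Nat.le_mul_of_pos_right (j + 1) (show 0 < m + 1 by omega); omega
      have hm : m < r := by have := Nat.le_mul_of_pos_left (m + 1) (show 0 < j + 1 by omega); omega
      have hrec := ih (r - (j + 1) * (m + 1)) l (by omega) (by simp only [wt]; omega)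
        fun c hc => hl c (List.mem_cons_of_mem _ hc)
      rw [allLists]
      refine List.mem_cons_of_mem _ (List.mem_flatMap.2 ⟨j, List.mem_range.2 hj,
        List.mem_flatMap.2 ⟨m, List.mem_range.2 hm, ?_⟩⟩)
      rw [if_pos (by omega)]
      refine List.mem_flatMap.2 ⟨l, hrec, ?_⟩
      cases s <;> simp

/-- A single class of odd multiplicity and nothing at `-1`. -/
def halfSingle (l : List (Atom × ℕ)) (d : ℕ) : Option Atom :=
  match l, d with
  | [(a, m)], 0 => if m % 2 = 1 then some a else none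
  | _, _ => none

theorem halfSingle_eq {l : List (Atom × ℕ)} {d : ℕ} {a : Atom} (h : halfSingle l d = some a) :
    ∃ m, l = [(a, m)] ∧ m % 2 = 1 ∧ d = 0 := by
  rcases l with _ | ⟨⟨a', m⟩, _ | ⟨c, l⟩⟩ <;> rcases d with _ | d <;> simp [halfSingle] at h
  obtain ⟨h1, rfl⟩ := h
  exact ⟨m, rfl, h1, rfl⟩

/-- How an entry covers the semisimple part of a configuration. -/
def covers (l : List (Atom × ℕ)) (d : ℕ) (N : Entry) : Bool :=
  if N.half then (decide (N.atoms = [] ∧ l = []) || decide (∃ a, halfSingle l d = some a ∧ N.atoms = [a]))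
  else (decide ((∀ c ∈ l, ∃ a ∈ N.atoms, covA c.1 a = true) ∧ (d = 0 ∨ N.atoms ≠ []))
    || decide (halfSingle l d = some (4, false) ∧ N.atoms = [(2, true), (2, false)])
    || decide (halfSingle l d = some (2, false) ∧ N.atoms = [(1, true), (1, false)]))

/-- The configuration is covered by `N`. -/
def fits (l : List (Atom × ℕ)) (d : ℕ) (N : Entry) : Bool :=
  decide (9 - 2 * (wt l + d) ≤ N.b ∧ 2 * d - 1 ≤ N.b ∧ ∀ c ∈ l, c.2 ≤ N.b) && covers l d N

theorem cover_all : ((allLists 4 4).all fun l => (List.range 5).all fun d =>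
    decide (4 < wt l + d) || table.any fun N => fits l d N) = true := by
  decide +kernel

theorem cover {l : List (Atom × ℕ)} {d : ℕ} (hl : ∀ c ∈ l, 1 ≤ c.1.1 ∧ 1 ≤ c.2) (h : wt l + d ≤ 4) :
    ∃ N ∈ table, 9 - 2 * (wt l + d) ≤ N.b ∧ 2 * d - 1 ≤ N.b ∧ (∀ c ∈ l, c.2 ≤ N.b) ∧ covers l d N = true := by
  have hc := cover_all
  rw [List.all_eq_true] at hc
  have := hc l (mem_allLists 4 4 l le_rfl (by omega) hl)
  rw [List.all_eq_true] at this
  have := this d (List.mem_range.2 (by omega))
  rw [Bool.or_eq_true, decide_eq_true_eq, List.any_eq_true] at this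
  rcases this with h' | ⟨N, hN, hf⟩
  · omega
  · rw [fits, Bool.and_eq_true, decide_eq_true_eq] at hf
    exact ⟨N, hN, hf.1.1, hf.1.2.1, hf.1.2.2, hf.2⟩

section Arith

variable {q : ℕ}

theorem atomVal_dvd_lcm {c : Atom} : ∀ {L : List Atom}, c ∈ L → atomVal q c ∣ (L.map (atomVal q)).foldr Nat.lcm 1
  | [], h => absurd h List.not_mem_nil
  | d :: L, h => by
    rw [List.map_cons, List.foldr_cons]
    rcases List.mem_cons.1 h with rfl | h
    · exact Nat.dvd_lcm_left _ _
    · exact (atomVal_dvd_lcm h).trans (Nat.dvd_lcm_right _ _)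

theorem covA_dvd {c a : Atom} (h : covA c a = true) : atomVal q c ∣ atomVal q a := by
  obtain ⟨j, s⟩ := c
  obtain ⟨k, t⟩ := a
  cases s <;> cases t <;> simp only [covA, Bool.false_eq_true, if_false, if_true, decide_eq_true_eq] at h
  · obtain ⟨u, rfl⟩ := h
    simp only [atomVal, Bool.false_eq_true, if_false, pow_mul]
    simpa using Nat.sub_dvd_pow_sub_pow (q ^ j) 1 u
  · obtain ⟨u, rfl⟩ := h
    simp only [atomVal, Bool.false_eq_true, if_false, if_true, mul_comm 2 j, mul_assoc, pow_mul q j]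
    have h1 : (q ^ j) ^ 2 - 1 ∣ ((q ^ j) ^ 2) ^ u - 1 := by simpa using Nat.sub_dvd_pow_sub_pow ((q ^ j) ^ 2) 1 u
    rw [pow_mul]
    refine dvd_trans ⟨q ^ j - 1, ?_⟩ h1
    rw [← one_pow 2, Nat.sq_sub_sq, one_pow]
  · obtain ⟨⟨u, rfl⟩, hu⟩ := h
    simp only [atomVal, if_true, pow_mul]
    rcases Nat.eq_zero_or_pos j with rfl | hj
    · simp
    · rw [Nat.mul_div_cancel_left _ hj] at hu
      simpa using (Nat.odd_iff.2 hu).nat_add_dvd_pow_add_pow (q ^ j) 1

theorem half_special (hq : Odd q) (j : ℕ) :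
    atomVal q (2 * j, false) / 2 ∣ Nat.lcm (atomVal q (j, true)) (atomVal q (j, false)) := by
  simp only [atomVal, Bool.false_eq_true, if_false, if_true]
  obtain ⟨m, hm⟩ : Odd (q ^ j) := hq.pow
  rw [mul_comm 2 j, pow_mul, ← one_pow 2, Nat.sq_sub_sq, one_pow, ← Nat.gcd_mul_lcm, hm]
  have hg : Nat.gcd (2 * m + 1 + 1) (2 * m + 1 - 1) = 2 := by
    refine Nat.dvd_antisymm ?_ (Nat.dvd_gcd ⟨m + 1, by omega⟩ ⟨m, by omega⟩)
    have := Nat.dvd_sub (Nat.gcd_dvd_left (2 * m + 1 + 1) (2 * m + 1 - 1))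
      (Nat.gcd_dvd_right (2 * m + 1 + 1) (2 * m + 1 - 1))
    rwa [show 2 * m + 1 + 1 - (2 * m + 1 - 1) = 2 by omega] at this
  rw [hg, Nat.mul_div_cancel_left _ two_pos]

end Arith

end Cfsg.Agent.SpecOmNine
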