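/-
Roots of the characteristic polynomial of a spinor-trivial isometry.
* `rootMultiplicity_minpoly_le` : two Jordan blocks lower the multiplicity in the minimal polynomial
* `exists_entry` : the entry of an isometry with trivial invariants in dimension at most nine
-/
import Cfsg.Agent.Lib.SpecOmNine.Spin
import Cfsg.Agent.Lib.SpecOmNine.Table
import Cfsg.Agent.Lib.SpecSpEight.AffineBound
import Cfsg.Agent.Lib.SelfDualOrder.Main

set_option autoImplicit false
set_option linter.unusedSectionVars false

namespace Cfsg.Agent.SpecOmNine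

open Module Polynomial Matrix Cfsg.Agent.Orth

theorem rootMultiplicity_minpoly_le {F V : Type*} [Field F] [AddCommGroup V] [Module F V] [FiniteDimensional F V]
    (φ : Module.End F V) (μ : F) (h : finrank F (LinearMap.ker (φ - algebraMap F (Module.End F V) μ)) ≠ 1) :
    rootMultiplicity μ (minpoly F φ) ≤ rootMultiplicity μ φ.charpoly - 1 := by
  set χ := φ.charpoly with hχ
  set n := φ - algebraMap F (Module.End F V) μ with hn
  have hmon : χ.Monic := LinearMap.charpoly_monic φ
  have hmin : (minpoly F φ) ≠ 0 := minpoly.ne_zero (Algebra.IsIntegral.isIntegral φ)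
  obtain ⟨R, hR, hnd⟩ := exists_eq_pow_rootMultiplicity_mul_and_not_dvd χ hmon.ne_zero μ
  set c := rootMultiplicity μ χ with hc
  rcases Nat.eq_zero_or_pos c with h0 | h0
  · have := rootMultiplicity_le_rootMultiplicity_of_dvd hmon.ne_zero (LinearMap.minpoly_dvd_charpoly φ) μ
    omega
  have hR0 : R ≠ 0 := fun e => hmon.ne_zero (by rw [hR, e, mul_zero])
  have hφ : aeval φ ((X - C μ) ^ c * R) = 0 := by rw [← hR]; exact LinearMap.aeval_self_charpoly φ
  have hXn : aeval φ (X - C μ) = n := by simp [hn]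
  rw [map_mul, map_pow, hXn] at hφ
  have hgen : ∀ k x, (n ^ k) x = ((φ - μ • (1 : Module.End F V)) ^ k) x := fun k x => by
    rw [hn, Algebra.algebraMap_eq_smul_one]
  have hbd : finrank F (LinearMap.ker (n ^ c)) ≤ c := by
    conv_rhs => rw [hc, hχ, ← LinearMap.finrank_maxGenEigenspace_eq]
    refine Submodule.finrank_mono fun x hx => ?_
    rw [Module.End.mem_maxGenEigenspace]
    exact ⟨c, by rwa [LinearMap.mem_ker, hgen] at hx⟩
  have h1 : finrank F (LinearMap.ker n) ≠ 0 := by
    intro hk
    rw [Submodule.finrank_eq_zero, LinearMap.ker_eq_bot] at hk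
    have hinj : Function.Injective (n ^ c) := by rw [Module.End.coe_pow]; exact hk.iterate c
    have hRφ : aeval φ R = 0 := LinearMap.ext fun x => hinj (by
      show (n ^ c) (aeval φ R x) = (n ^ c) 0
      rw [← Module.End.mul_apply, hφ, map_zero]; rfl)
    have h0' : rootMultiplicity μ (minpoly F φ) = 0 := by
      have := rootMultiplicity_le_rootMultiplicity_of_dvd hR0 (minpoly.dvd F φ hRφ) μ
      rw [rootMultiplicity_eq_zero (fun hr => hnd (dvd_iff_isRoot.2 hr))] at this
      omega
    have hroot : (minpoly F φ).IsRoot μ := by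
      have hev : φ.HasEigenvalue μ := (Module.End.hasEigenvalue_iff_isRoot_charpoly φ μ).2
        ((rootMultiplicity_pos hmon.ne_zero).1 h0)
      exact Module.End.isRoot_of_hasEigenvalue hev
    exact absurd h0' (Nat.pos_iff_ne_zero.1 ((rootMultiplicity_pos hmin).2 hroot))
  have hkill : aeval φ ((X - C μ) ^ (c - 1) * R) = 0 := by
    rw [map_mul, map_pow, hXn]
    refine LinearMap.ext fun x => ?_
    have hx : aeval φ R x ∈ LinearMap.ker (n ^ c) := by
      rw [LinearMap.mem_ker, ← Module.End.mul_apply, hφ, LinearMap.zero_apply]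
    exact SpecSpEight.ker_pow_le_pred n (by change finrank F (LinearMap.ker n) ≠ 1 at h; omega) hbd hx
  have hne : (X - C μ) ^ (c - 1) * R ≠ 0 := mul_ne_zero (pow_ne_zero _ (X_sub_C_ne_zero μ)) hR0
  refine (rootMultiplicity_le_rootMultiplicity_of_dvd hne (minpoly.dvd F φ hkill) μ).trans ?_
  rw [rootMultiplicity_mul hne, rootMultiplicity_eq_zero (fun hr => hnd (dvd_iff_isRoot.2 hr)),
    rootMultiplicity_X_sub_C_pow]
  simp

variable {F : Type*} [Field F] [Fintype F] {ι : Type} [Fintype ι] [DecidableEq ι]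
variable {Q : QuadraticForm F (ι → F)}

open Classical in
theorem even_atomVal {q j : ℕ} (hq : Odd q) (s : Bool) : Even (atomVal q (j, s)) := by
  have h : Odd (q ^ j) := hq.pow
  unfold atomVal
  cases s
  · simp only [Bool.false_eq_true, if_false]; exact Nat.Odd.sub_odd h odd_one
  · simp only [if_true]; exact h.add_one

theorem two_dvd_lcm {q : ℕ} (hq : Odd q) {L : List Atom} (hL : L ≠ []) :
    2 ∣ (L.map (atomVal q)).foldr Nat.lcm 1 := by
  obtain ⟨a, ha⟩ := List.exists_mem_of_ne_nil _ hL
  exact (even_iff_two_dvd.1 (even_atomVal hq a.2)).trans (atomVal_dvd_lcm ha)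

theorem rPart_pos {q : ℕ} (hq : Odd q) (hq3 : 2 ≤ q) {N : Entry} (hN : N ∈ table) : 0 < rPart q N := by
  have hpos : ∀ c ∈ N.atoms, 0 < atomVal q c := by
    intro c hc
    have hj : c.1 ≠ 0 := (show ∀ N' ∈ table, ∀ c' ∈ N'.atoms, c'.1 ≠ 0 by decide) N hN c hc
    have : 2 ≤ q ^ c.1 := hq3.trans (Nat.le_self_pow hj q)
    unfold atomVal
    split <;> omega
  have h0 : 0 < (N.atoms.map (atomVal q)).foldr Nat.lcm 1 :=
    List.foldrRecOn (motive := fun n => 0 < n) _ _ one_pos fun b hb a ha => by
      obtain ⟨c, hc, rfl⟩ := List.mem_map.1 ha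
      exact Nat.lcm_pos (hpos c hc) hb
  unfold rPart
  split
  · split
    · exact two_pos
    · rename_i h
      exact Nat.div_pos (Nat.le_of_dvd h0 (two_dvd_lcm hq h)) two_pos
  · exact h0

set_option maxHeartbeats 1000000 in
theorem exists_entry (hG : Good Q) (h2 : (2 : F) ≠ 0) (g : IsoGrp Q) (hdk : dick g = 1) (hsp : spin g = 1)
    (hn : Fintype.card ι ≤ 9) :
    ∃ N ∈ table, 0 < rPart (Fintype.card F) N ∧
      ∀ x : ((g : GL ι F) : Matrix ι ι F).charpoly.SplittingField,
        x ∈ (((g : GL ι F) : Matrix ι ι F).charpoly.map (algebraMap F _)).roots →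
        x ^ rPart (Fintype.card F) N = 1 ∧
        ((((g : GL ι F) : Matrix ι ι F).charpoly.map (algebraMap F _)).rootMultiplicity x ≤ N.b ∨
          (x = -1 ∧ (((g : GL ι F) : Matrix ι ι F).charpoly.map (algebraMap F _)).rootMultiplicity x - 1 ≤ N.b)) := by
  classical
  set q := Fintype.card F with hqdef
  set M := ((g : GL ι F) : Matrix ι ι F) with hM
  set χ := M.charpoly with hχ
  let K := χ.SplittingField
  let φ : F →+* K := algebraMap F K
  haveI : Finite K := inferInstance
  letI := Fintype.ofFinite K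
  set χK := χ.map φ with hχK
  have hmon : χK.Monic := (M.charpoly_monic).map _
  have hspl : χK.Splits := Polynomial.SplittingField.splits χ
  set s := χK.roots with hs
  have hscard : Multiset.card s = Fintype.card ι := by
    rw [hs, ← hspl.natDegree_eq_card_roots, hχK, natDegree_map, hχ, charpoly_natDegree_eq_dim]
  have hdetM : M.det = 1 := by rw [hM, det_eq_dick hG, hdk]; simp
  have hu : IsUnit M := (Matrix.isUnit_iff_isUnit_det M).2 (by rw [hdetM]; exact isUnit_one)
  have hsd : M⁻¹.charpoly = M.charpoly := by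
    set B := LinearMap.toMatrix₂' F Q.polarBilin with hB
    have hMB : M.transpose * B * M = B := by
      have hap : M = LinearMap.toMatrix' (ap g) := (LinearMap.toMatrix'_toLin' M).symm
      rw [hap, hB, ← LinearMap.toMatrix₂'_compl₁₂]
      congr 1
      exact LinearMap.ext₂ fun x y => polar_ap g x y
    have hBd : B.det ≠ 0 := by
      rw [hB]
      exact Matrix.nondegenerate_iff_det_ne_zero.1 (LinearMap.nondegenerate_toMatrix₂'_iff.2 hG.nd)
    have hBu : IsUnit B.det := isUnit_iff_ne_zero.2 hBd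
    have hinv : M⁻¹ = B⁻¹ * M.transpose * B := by
      refine Matrix.inv_eq_left_inv ?_
      rw [mul_assoc, mul_assoc, ← mul_assoc M.transpose, hMB, Matrix.nonsing_inv_mul B hBu]
    rw [hinv]
    obtain ⟨U, hU⟩ := (Matrix.isUnit_iff_isUnit_det B).2 hBu
    rw [← hU, Matrix.charpoly_units_conj' U, Matrix.charpoly_transpose]
  have h0s : (0 : K) ∉ s := by
    intro h
    rw [hs, mem_roots hmon.ne_zero, IsRoot.def, hχK, eval_zero_map] at h
    have h1 : χ.eval 0 = 0 := φ.injective (h.trans (map_zero φ).symm)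
    rw [← coeff_zero_eq_eval_zero] at h1
    refine one_ne_zero (α := F) ?_
    rw [← hdetM, Matrix.det_eq_sign_charpoly_coeff, ← hχ, h1, mul_zero]
  have hprod : χK = (s.map fun a => X - Polynomial.C a).prod := hspl.eq_prod_roots_of_monic hmon
  have hsinv : s.map (·⁻¹) = s := by
    obtain ⟨c, hc, hrev⟩ := SelfDualOrder.reverse_prod s h0s
    have h1 : χ = (-1) ^ Fintype.card ι * Polynomial.C (Ring.inverse M.det) * χ.reverse := by
      have h := Matrix.charpoly_inv M hu
      rwa [hsd, ← Matrix.reverse_charpoly] at h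
    have h2' : χK = Polynomial.C ((-1) ^ Fintype.card ι * φ (Ring.inverse M.det)) * χK.reverse := by
      have e : (χ.reverse).map φ = χK.reverse := by
        rw [hχK, reverse, reverse, natDegree_map, reflect_map]
      have e2 := congrArg (Polynomial.map φ) h1
      rw [Polynomial.map_mul, Polynomial.map_mul, Polynomial.map_pow, Polynomial.map_neg, Polynomial.map_one, map_C, e,
        ← hχK] at e2
      refine e2.trans ?_
      simp [C_mul, C_pow]
    have hne : ((-1) ^ Fintype.card ι * φ (Ring.inverse M.det) : K) * c ≠ 0 := by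
      refine mul_ne_zero (mul_ne_zero (pow_ne_zero _ (neg_ne_zero.2 one_ne_zero)) ?_) hc
      rw [hdetM, Ring.inverse_one, map_one]; exact one_ne_zero
    conv_rhs => rw [hs, h2']
    rw [hprod, hrev, ← mul_assoc, ← C_mul, roots_C_mul _ hne, roots_multiset_prod_X_sub_C]
  have hcount : ∀ x, s.count x⁻¹ = s.count x := fun x => by
    conv_lhs => rw [← hsinv]
    exact Multiset.count_map_eq_count' _ _ inv_injective x
  let ψ : K →+* K := (FiniteField.frobeniusAlgHom F K : K →+* K)
  have hψ : ∀ x, ψ x = x ^ q := fun x => rfl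
  have hfix : χK.map ψ = χK := by
    rw [hχK, Polynomial.map_map, show ψ.comp φ = φ from RingHom.ext fun a => (FiniteField.frobeniusAlgHom F K).commutes a]
  have hfrob : ∀ x, s.count (x ^ q) = s.count x := fun x => by
    rw [hs, count_roots, count_roots]
    conv_lhs => rw [← hfix, ← hψ]
    exact (eq_rootMultiplicity_map ψ.injective x).symm
  have hfinj : Function.Injective fun x : K => x ^ q := fun x y h => ψ.injective h
  have hadd : ∀ x y : K, (x + y) ^ q = x ^ q + y ^ q := fun x y => ψ.map_add x y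
  have hper : ∀ x : K, ∃ k, 0 < k ∧ x ^ q ^ k = x := fun x => ⟨Module.finrank F K, Module.finrank_pos, by
    rw [hqdef, ← Module.card_eq_pow_finrank, FiniteField.pow_card]⟩
  have h2K : (2 : K) ≠ 0 := fun h => h2 (φ.injective (by rw [map_ofNat, map_zero]; exact h))
  have hr2 : ringChar F ≠ 2 := fun h => h2 (by
    have := ringChar.charP F
    have := CharP.cast_eq_zero F (ringChar F)
    rw [h] at this; exact_mod_cast this)
  have hqodd : Odd q := Nat.odd_iff.2 (FiniteField.odd_card_of_char_ne_two hr2)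
  have hneg1 : (-1 : K) ≠ 1 := fun h => h2K (by linear_combination -h)
  set S := s.toFinset.filter fun x => x ≠ 1 ∧ x ≠ -1 with hS
  have hSmem : ∀ x, x ∈ S ↔ 1 ≤ s.count x ∧ x ≠ 1 ∧ x ≠ -1 := fun x => by
    rw [hS, Finset.mem_filter, Multiset.mem_toFinset, ← Multiset.one_le_count_iff_mem]
  obtain ⟨l, hl, hw, hlp, hlx⟩ := exists_classes (q := q) (fun x => s.count x) hfinj hper hcount hfrob S.card S rfl
    (fun x hx => by
      rw [hSmem] at hx ⊢
      exact ⟨(hcount x).symm ▸ hx.1, fun h => hx.2.1 (inv_eq_one.1 h),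
        fun h => hx.2.2 (by rw [← inv_inv x, h, inv_neg, inv_one])⟩)
    (fun x hx => by
      rw [hSmem] at hx ⊢
      exact ⟨(hfrob x).symm ▸ hx.1, fun h => hx.2.1 (hfinj (h.trans (one_pow q).symm)),
        fun h => hx.2.2 (hfinj (h.trans hqodd.neg_one_pow.symm))⟩)
    (fun x hx => by
      rw [hSmem] at hx
      have hx0 : x ≠ 0 := fun e => h0s (e ▸ Multiset.one_le_count_iff_mem.1 hx.1)
      refine ⟨hx0, fun h => ?_, hx.1⟩
      have h3 : x * x = 1 := by nth_rewrite 1 [← h]; exact inv_mul_cancel₀ hx0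
      rcases mul_self_eq_one_iff.1 h3 with h4 | h4
      · exact hx.2.1 h4
      · exact hx.2.2 h4)
  have hprodall : ∀ f : K → K, (s.map f).prod =
      f 1 ^ s.count 1 * (f (-1) ^ s.count (-1) * ∏ x ∈ S, f x ^ s.count x) := by
    intro f
    rw [Finset.prod_multiset_map_count]
    have hsub : s.toFinset ⊆ insert 1 (insert (-1) S) := by
      intro x hx
      by_cases h1 : x = 1
      · rw [h1]; exact Finset.mem_insert_self _ _
      by_cases h1' : x = -1
      · rw [h1']; exact Finset.mem_insert_of_mem (Finset.mem_insert_self _ _)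
      exact Finset.mem_insert_of_mem (Finset.mem_insert_of_mem (Finset.mem_filter.2 ⟨hx, h1, h1'⟩))
    rw [Finset.prod_subset hsub fun x _ hx => by
      rw [Multiset.count_eq_zero_of_notMem (fun h => hx (Multiset.mem_toFinset.2 h)), pow_zero]]
    rw [Finset.prod_insert (by simp [hS, hneg1.symm]), Finset.prod_insert (by simp [hS])]
  have hsum : Fintype.card ι = s.count 1 + (s.count (-1) + ∑ x ∈ S, s.count x) := by
    rw [← hscard, ← Multiset.toFinset_sum_count_eq s]
    have hsub : s.toFinset ⊆ insert 1 (insert (-1) S) := by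
      intro x hx
      by_cases h1 : x = 1
      · rw [h1]; exact Finset.mem_insert_self _ _
      by_cases h1' : x = -1
      · rw [h1']; exact Finset.mem_insert_of_mem (Finset.mem_insert_self _ _)
      exact Finset.mem_insert_of_mem (Finset.mem_insert_of_mem (Finset.mem_filter.2 ⟨hx, h1, h1'⟩))
    rw [Finset.sum_subset hsub fun x _ hx => Multiset.count_eq_zero_of_notMem (fun h => hx (Multiset.mem_toFinset.2 h)),
      Finset.sum_insert (by simp [hS, hneg1.symm]), Finset.sum_insert (by simp [hS])]
  set lc := l.map (·.1) with hlc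
  have hc2 : Even (s.count (-1)) := by
    have h := hprodall id
    have e : (s.map id).prod = 1 := by
      have h' := Matrix.det_eq_prod_roots_charpoly_of_splits (B := M.map φ) (by
        rw [Matrix.charpoly_map]; exact hspl)
      rw [← RingHom.mapMatrix_apply, ← RingHom.map_det, hdetM, map_one, RingHom.mapMatrix_apply,
        Matrix.charpoly_map] at h'
      rw [Multiset.map_id]
      exact h'.symm
    rw [e, hlp id, List.prod_eq_one fun y hy => by
      obtain ⟨c, hc, rfl⟩ := List.mem_map.1 hy
      rw [show clsProd q id c = 1 from Finset.prod_eq_one fun i _ => mul_inv_cancel₀ (pow_ne_zero _ (hl c hc).2.2.1),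
        one_pow]] at h
    simp only [id_eq, one_pow, one_mul, mul_one] at h
    by_contra ho
    rw [(Nat.not_even_iff_odd.1 ho).neg_one_pow] at h
    exact hneg1 h.symm
  obtain ⟨d, hd⟩ := hc2
  have hl1 : ∀ c ∈ lc, 1 ≤ c.1.1 ∧ 1 ≤ c.2 := by
    intro c hc
    obtain ⟨c', hc', rfl⟩ := List.mem_map.1 hc
    exact ⟨(hl c' hc').1, (hl c' hc').2.1⟩
  rw [hd, hw] at hsum
  obtain ⟨N, hN, hb1, hb2, hb3, hcov⟩ := cover hl1 (d := d) (by omega)
  set r := rPart q N with hrdef
  have hr : 0 < r := rPart_pos hqodd (Fintype.one_lt_card) hN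
  have hsingle : ∀ a, halfSingle lc d = some a → ∀ c ∈ l, c.1.1 = a ∧ c.2 ^ (atomVal q a / 2) = 1 := by
    intro a' ha
    obtain ⟨m, hlist, hm, hd0'⟩ := halfSingle_eq ha
    obtain ⟨⟨⟨a'', m''⟩, lam⟩, rfl⟩ : ∃ c, l = [c] := by
      rcases l with _ | ⟨c, _ | ⟨c', l⟩⟩
      · simp [hlc] at hlist
      · exact ⟨c, rfl⟩
      · simp [hlc] at hlist
    simp [hlc] at hlist
    obtain ⟨rfl, rfl⟩ := hlist
    intro c hc
    rw [List.mem_singleton] at hc
    subst hc
    refine ⟨rfl, ?_⟩
    obtain ⟨hj, -, hl0, hlpow, hlq⟩ := hl _ List.mem_cons_self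
    simp only at hj hl0 hlpow hlq
    have hm1 : s.count (-1) = 0 := by omega
    have hdet : φ (1 + M).det = (s.map fun x => 1 + x).prod := by
      have e1 : χK.eval (-1) = (-1) ^ Fintype.card ι * φ (1 + M).det := by
        have e0 : χK.eval (φ (-1)) = φ (M.charpoly.eval (-1)) := by rw [hχK, eval_map_apply]
        rw [map_neg, map_one] at e0
        rw [e0, Matrix.eval_charpoly,
          show (Matrix.scalar ι) (-1 : F) - M = -(1 + M) by rw [map_neg, map_one]; abel, Matrix.det_neg]
        simp
      have e2 : χK.eval (-1) = (-1) ^ Fintype.card ι * (s.map fun x => 1 + x).prod := by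
        rw [hprod, eval_multiset_prod, Multiset.map_map, ← hscard,
          show (s.map fun x => 1 + x) = s.map fun x => (-1) * (-1 - x) from
            Multiset.map_congr rfl fun x _ => by ring, Multiset.prod_map_mul]
        rw [Multiset.map_const', Multiset.prod_replicate, ← mul_assoc, ← mul_pow,
          show (-1 : K) * (-1) = 1 by ring, one_pow, one_mul]
        simp [Function.comp_def]
      exact mul_left_cancel₀ (pow_ne_zero _ (neg_ne_zero.2 one_ne_zero)) (e1.symm.trans e2)
    rw [hprodall, hlp, hm1, pow_zero, one_mul] at hdet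
    simp only [List.map_cons, List.map_nil, List.prod_cons, List.prod_nil, mul_one] at hdet
    set P := clsProd q (fun x => 1 + x) ((a'', m''), lam) with hP
    have hne : ∀ i < a''.1, 1 + lam ^ q ^ i ≠ 0 := by
      intro i hi h
      have hneg : lam = -1 := by
        have hqi : Function.Injective fun x : K => x ^ q ^ i := by
          clear hi h
          induction i with
          | zero => intro x y h; simpa using h
          | succ i ih => intro x y h; simp only [pow_succ, pow_mul] at h; exact ih (hfinj h)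
        refine hqi ?_
        simp only
        rw [(hqodd.pow (n := i)).neg_one_pow]
        linear_combination h
      have hz : ∏ x ∈ S, (fun y : K => if y = -1 then (0 : K) else 1) x ^ s.count x = 1 :=
        Finset.prod_eq_one fun x hx => by simp [((hSmem x).1 hx).2.2]
      rw [hlp] at hz
      simp only [List.map_cons, List.map_nil, List.prod_cons, List.prod_nil, mul_one] at hz
      rw [clsProd, Finset.prod_eq_zero (Finset.mem_range.2 (show 0 < a''.1 by omega)) (by simp [hneg]),
        zero_pow (by omega)] at hz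
      exact zero_ne_one hz
    have hPne : P ≠ 0 := by
      refine Finset.prod_ne_zero_iff.2 fun i hi => mul_ne_zero (hne i (Finset.mem_range.1 hi)) fun h => ?_
      have hne' := hne i (Finset.mem_range.1 hi)
      have hli := pow_ne_zero (q ^ i) hl0
      apply hne'
      rw [← inv_inv (lam ^ q ^ i), show (lam ^ q ^ i)⁻¹ = -1 by linear_combination h, inv_neg, inv_one]
      ring
    have hd0 : (1 + M).det ≠ 0 := by
      intro h
      rw [h, map_zero] at hdet
      exact mul_ne_zero (pow_ne_zero _ (by rw [show (1 : K) + 1 = 2 by norm_num]; exact h2K))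
        (pow_ne_zero _ hPne) hdet.symm
    obtain ⟨hspin, -⟩ := spin_eq_det hG h2 g hd0
    rw [hsp] at hspin
    have hpow : ((1 + M).det * 2 ^ Fintype.card ι) ^ (q / 2) = 1 := by
      have hne0 : (1 + M).det * 2 ^ Fintype.card ι ≠ 0 := mul_ne_zero hd0 (pow_ne_zero _ h2)
      rw [← FiniteField.isSquare_iff hr2 hne0]
      exact (quadraticChar_one_iff_isSquare hne0).1 hspin.symm
    have hpowK := congrArg φ hpow
    rw [map_pow, map_mul, map_pow, map_one, hdet, map_ofNat, one_add_one_eq_two] at hpowK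
    have horb : P ^ (q / 2) * lam ^ (atomVal q a'' / 2) = 1 :=
      orbit_prod_pow hadd hqodd hj a''.2 hl0 hlq hne
    have h2q : (2 : K) ^ (q - 1) = 1 := by
      rw [show (2 : K) = φ 2 by rw [map_ofNat], ← map_pow, FiniteField.pow_card_sub_one_eq_one 2 h2, map_one]
    have hPm : (P ^ (q / 2)) ^ m'' = 1 := by
      obtain ⟨h', hh⟩ := hqodd
      have h2q' : (2 : K) ^ (2 * h') = 1 := by rw [show 2 * h' = q - 1 by omega]; exact h2q
      have e : ((2 : K) ^ s.count 1 * P ^ m'' * (2 : K) ^ Fintype.card ι) ^ (q / 2) =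
          ((2 : K) ^ (2 * h')) ^ (s.count 1 + a''.1 * m'') * (P ^ (q / 2)) ^ m'' := by
        have hn' : Fintype.card ι = s.count 1 + 2 * (a''.1 * m'') := by
          simp [hlc, wt] at hsum
          omega
        rw [hn', show q / 2 = h' by omega]
        ring
      rw [e, h2q', one_pow, one_mul] at hpowK
      exact hpowK
    have hsq : (lam ^ (atomVal q a'' / 2)) ^ 2 = 1 := by
      rw [← pow_mul, Nat.div_mul_cancel (even_iff_two_dvd.1 (even_atomVal hqodd a''.2))]
      exact hlpow
    have h3 : (lam ^ (atomVal q a'' / 2)) ^ m'' = 1 := by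
      have := congrArg (· ^ m'') horb
      simpa [mul_pow, hPm] using this
    obtain ⟨u, hu⟩ := Nat.odd_iff.2 hm
    rwa [hu, pow_succ, pow_mul, hsq, one_pow, one_mul] at h3
  refine ⟨N, hN, hr, fun x hx => ?_⟩
  change x ∈ s at hx
  have hxc : 1 ≤ s.count x := Multiset.one_le_count_iff_mem.2 hx
  have hmult : ∀ y, χK.rootMultiplicity y = s.count y := fun y => by rw [hs, count_roots]
  change x ^ r = 1 ∧ (χK.rootMultiplicity x ≤ N.b ∨ (x = -1 ∧ χK.rootMultiplicity x - 1 ≤ N.b))
  rw [hmult]
  have hcovers := hcov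
  unfold covers at hcovers
  by_cases h1 : x = 1
  · subst h1
    exact ⟨one_pow _, Or.inl (by omega)⟩
  by_cases h1' : x = -1
  · subst h1'
    refine ⟨?_, Or.inr ⟨rfl, by omega⟩⟩
    have hd1 : d ≠ 0 := by omega
    have hns : ∀ a, halfSingle lc d ≠ some a := fun a h => by
      obtain ⟨m, -, -, h0⟩ := halfSingle_eq h
      exact hd1 h0
    suffices 2 ∣ r by
      obtain ⟨u, hu⟩ := this
      rw [hu, pow_mul, neg_one_sq, one_pow]
    rw [hrdef, rPart]
    by_cases hh : N.half
    · simp only [hh, if_true, Bool.or_eq_true, decide_eq_true_eq] at hcovers ⊢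
      rcases hcovers with ⟨h, -⟩ | ⟨a, h, -⟩
      · rw [if_pos h]
      · exact absurd h (hns a)
    · simp only [hh, Bool.false_eq_true, if_false, Bool.or_eq_true, decide_eq_true_eq] at hcovers ⊢
      rcases hcovers with (⟨-, h⟩ | ⟨h, -⟩) | ⟨h, -⟩
      · exact two_dvd_lcm hqodd (h.resolve_left hd1)
      · exact absurd h (hns _)
      · exact absurd h (hns _)
  obtain ⟨c, hc, hcx, hcN⟩ := hlx x ((hSmem x).2 ⟨hxc, h1, h1'⟩)
  have hclc : c.1 ∈ lc := List.mem_map.2 ⟨c, hc, rfl⟩
  refine ⟨hcN r ?_, Or.inl (hcx.trans (hb3 _ hclc))⟩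
  have hdvd : ∀ k, k ∣ r → c.2 ^ k = 1 → c.2 ^ r = 1 := fun k hk h => by
    obtain ⟨w, hw⟩ := hk
    rw [hw, pow_mul, h, one_pow]
  by_cases hh : N.half
  · simp only [hh, if_true, Bool.or_eq_true, decide_eq_true_eq] at hcovers
    rcases hcovers with ⟨-, h⟩ | ⟨a, h, hat⟩
    · rw [h] at hclc; simp at hclc
    · obtain ⟨hca, hcp⟩ := hsingle a h c hc
      refine hdvd _ (dvd_of_eq ?_) hcp
      rw [hrdef, rPart, hh, if_pos rfl, hat]
      simp [Nat.lcm_comm]
  · have hr' : r = (N.atoms.map (atomVal q)).foldr Nat.lcm 1 := by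
      simp [hrdef, rPart, hh]
    simp only [hh, Bool.false_eq_true, if_false, Bool.or_eq_true, decide_eq_true_eq] at hcovers
    rcases hcovers with (⟨h, -⟩ | ⟨h, hat⟩) | ⟨h, hat⟩
    · obtain ⟨a, ha, hca⟩ := h _ hclc
      exact hdvd _ (hr' ▸ (covA_dvd hca).trans (atomVal_dvd_lcm ha)) (hl c hc).2.2.2.1
    · refine hdvd _ ?_ (hsingle _ h c hc).2
      rw [hr', hat]
      simpa using half_special hqodd 2
    · refine hdvd _ ?_ (hsingle _ h c hc).2
      rw [hr', hat]
      simpa using half_special hqodd 1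

end Cfsg.Agent.SpecOmNine
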