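/-
Orders in `Ω₉(q)` and in `V ⋊ Ω₈⁻(q)`, `q` odd, divide a number of the table.
* `exists_bound_nine`, `exists_bound_eight`
-/
import Cfsg.Agent.Lib.SpecOmNine.Roots

set_option autoImplicit false
set_option linter.unusedSectionVars false

namespace Cfsg.Agent.SpecOmNine

open Module Polynomial Matrix Cfsg.Agent.Orth

universe u

variable {F : Type u} [Field F] [Fintype F] {ι : Type} [Fintype ι] [DecidableEq ι]
variable {Q : QuadraticForm F (ι → F)}

theorem ker_add_one_ne_one (hG : Good Q) (h2 : (2 : F) ≠ 0) (g : IsoGrp Q) (hdk : dick g = 1) :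
    finrank F (LinearMap.ker (ap g - algebraMap F (Module.End F (ι → F)) (-1))) ≠ 1 := by
  set T := ap g - algebraMap F (Module.End F (ι → F)) (-1) with hT
  have hTx : ∀ x, T x = ap g x + x := fun x => by simp [hT]
  have h : dick (negOne Q * g) = (-1) ^ Fintype.card ι := by rw [dick_mul hG, hdk, dick_negOne Q h2, mul_one]
  have hr : resSpace (negOne Q * g) = LinearMap.range T := by
    ext w
    rw [mem_resSpace, LinearMap.mem_range]
    refine ⟨fun ⟨x, hx⟩ => ⟨-x, ?_⟩, fun ⟨x, hx⟩ => ⟨-x, ?_⟩⟩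
    · rw [hTx, map_neg, ← hx, ap_mul, negOne_ap]; abel
    · rw [ap_mul, negOne_ap, map_neg, ← hx, hTx]; abel
  rw [dick, hr, neg_one_pow_eq_neg_one_pow_iff_parity] at h
  have hsum := LinearMap.finrank_range_add_finrank_ker T
  rw [Module.finrank_pi] at hsum
  intro h1
  rw [h1] at hsum
  have := h
  rw [Nat.even_iff, Nat.even_iff] at this
  omega
where
  neg_one_pow_eq_neg_one_pow_iff_parity {a b : ℕ} : (-1 : ℤ) ^ a = (-1) ^ b ↔ (Even a ↔ Even b) := by
    rcases Nat.even_or_odd a with ha | ha <;> rcases Nat.even_or_odd b with hb | hb <;>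
      simp [ha.neg_one_pow, hb.neg_one_pow, Nat.not_even_iff_odd.2, *]

/-- The minimal polynomial divides a polynomial with large enough multiplicities at the roots. -/
theorem minpoly_dvd_of_roots (g : IsoGrp Q) (P : F[X]) (hP : P ≠ 0)
    (h : ∀ x : ((g : GL ι F) : Matrix ι ι F).charpoly.SplittingField,
      ((minpoly F (ap g)).map (algebraMap F _)).rootMultiplicity x ≤ (P.map (algebraMap F _)).rootMultiplicity x) :
    aeval (ap g) P = 0 := by
  classical
  set χ := ((g : GL ι F) : Matrix ι ι F).charpoly with hχ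
  have hcp : LinearMap.charpoly (ap g) = χ := by
    rw [hχ, ← LinearMap.charpoly_toMatrix (ap g) (Pi.basisFun F ι), LinearMap.toMatrix_eq_toMatrix']
    congr 1
    exact LinearMap.toMatrix'_toLin' _
  set φ := algebraMap F χ.SplittingField
  have hmd : minpoly F (ap g) ∣ χ := hcp ▸ LinearMap.minpoly_dvd_charpoly _
  have hm0 : minpoly F (ap g) ≠ 0 := minpoly.ne_zero (Algebra.IsIntegral.isIntegral _)
  have hspl : ((minpoly F (ap g)).map φ).Splits :=
    (Polynomial.SplittingField.splits χ).of_dvd ((Polynomial.map_ne_zero_iff φ.injective).2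
      ((Matrix.charpoly_monic _).ne_zero)) (Polynomial.map_dvd φ hmd)
  obtain ⟨w, hw⟩ : minpoly F (ap g) ∣ P := by
    rw [← map_dvd_map' φ]
    refine hspl.dvd_of_roots_le_roots ((Polynomial.map_ne_zero_iff φ.injective).2 hm0) (Multiset.le_iff_count.2 fun x => ?_)
    rw [count_roots, count_roots]
    exact h x
  rw [hw, map_mul, minpoly.aeval, zero_mul]

theorem rootMultiplicity_pow_sub_one {K : Type*} [Field K] {x : K} {r k : ℕ} (hr : 0 < r) (hx : x ^ r = 1) :
    k ≤ (((X : K[X]) ^ r - 1) ^ k).rootMultiplicity x := by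
  have hne : ((X : K[X]) ^ r - 1) ≠ 0 := by
    rw [← Polynomial.C_1]; exact X_pow_sub_C_ne_zero hr 1
  rw [le_rootMultiplicity_iff (pow_ne_zero _ hne)]
  refine pow_dvd_pow_of_dvd ?_ _
  rw [dvd_iff_isRoot]
  simp [hx]

theorem geom_sum_ne_zero {N : ℕ} (hN : 0 < N) : (∑ i ∈ Finset.range N, (X : F[X]) ^ i) ≠ 0 := by
  intro h
  have := congrArg (fun P : F[X] => P * (X - 1)) h
  simp only [geom_sum_mul, zero_mul] at this
  rw [← Polynomial.C_1] at this
  exact X_pow_sub_C_ne_zero hN (1 : F) this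

variable {p : ℕ} [Fact p.Prime] [CharP F p]

/-- The power of the characteristic exceeds the block bound. -/
theorem le_pow_clog (N : Entry) : N.b ≤ p ^ Nat.clog p N.b := Nat.le_pow_clog (Fact.out : p.Prime).one_lt _

open Classical in
/-- The comparison of multiplicities at one point, over an abstract field. -/
theorem mult_le {K : Type u} [Field K] [Algebra F K] (h2 : (2 : F) ≠ 0) (m χ P : F[X]) (hm : m ∣ χ) (hχ : χ ≠ 0)
    {r b pe ε : ℕ} (hb : b ≤ pe) (hε : ε ≤ 1) (x : K)
    (h1 : ε = 1 → m.rootMultiplicity 1 ≤ χ.rootMultiplicity 1 - 1)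
    (hneg : m.rootMultiplicity (-1) ≤ χ.rootMultiplicity (-1) - 1)
    (hroots : x ∈ (χ.map (algebraMap F K)).roots → x ^ r = 1 ∧
      ((χ.map (algebraMap F K)).rootMultiplicity x ≤ b ∨
        (x = -1 ∧ (χ.map (algebraMap F K)).rootMultiplicity x - 1 ≤ b)))
    (hP : x ^ r = 1 → pe - (if x = 1 then ε else 0) ≤ (P.map (algebraMap F K)).rootMultiplicity x) :
    (m.map (algebraMap F K)).rootMultiplicity x ≤ (P.map (algebraMap F K)).rootMultiplicity x := by
  set φ := algebraMap F K
  have hχ0 : χ.map φ ≠ 0 := (Polynomial.map_ne_zero_iff φ.injective).2 hχ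
  have hle : (m.map φ).rootMultiplicity x ≤ (χ.map φ).rootMultiplicity x :=
    rootMultiplicity_le_rootMultiplicity_of_dvd hχ0 (Polynomial.map_dvd φ hm) x
  by_cases hx : x ∈ (χ.map φ).roots
  swap
  · rw [mem_roots hχ0] at hx
    have hz := rootMultiplicity_eq_zero hx
    omega
  obtain ⟨hxr, hxb⟩ := hroots hx
  refine le_trans ?_ (hP hxr)
  have hμ : ∀ μ : F, m.rootMultiplicity μ ≤ χ.rootMultiplicity μ - 1 →
      (m.map φ).rootMultiplicity (φ μ) ≤ (χ.map φ).rootMultiplicity (φ μ) - 1 := fun μ h => by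
    rwa [← eq_rootMultiplicity_map φ.injective, ← eq_rootMultiplicity_map φ.injective]
  have hne : x = -1 → x ≠ 1 := fun h h' => by
    have e : φ (-1) = φ 1 := by rw [map_neg, map_one]; exact h.symm.trans h'
    exact h2 (by linear_combination -(φ.injective e))
  rcases hxb with hb' | ⟨hx1, hb'⟩
  · by_cases hx' : x = 1
    · rw [if_pos hx']
      rcases Nat.le_one_iff_eq_zero_or_eq_one.1 hε with rfl | rfl
      · omega
      · have hk' := hμ 1 (h1 rfl)
        rw [map_one, ← hx'] at hk'
        omega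
    · rw [if_neg hx']; omega
  · rw [if_neg (hne hx1)]
    have hk' := hμ (-1) hneg
    rw [map_neg, map_one, ← hx1] at hk'
    omega

open Classical in
/-- The common part of the two bounds: `ε = 1` for a translation part. -/
theorem exists_aeval_eq_zero (hG : Good Q) (h2 : (2 : F) ≠ 0) (g : IsoGrp Q) (hdk : dick g = 1) (hsp : spin g = 1)
    (hn : Fintype.card ι ≤ 9) (P : ℕ → F[X]) (ε : ℕ)
    (hP : ∀ N, 0 < N → P N ≠ 0)
    (hPm : ∀ (K : Type u) [Field K] [Algebra F K] (x : K) (r e : ℕ), 0 < r → x ^ r = 1 →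
      p ^ e - (if x = 1 then ε else 0) ≤ ((P (r * p ^ e)).map (algebraMap F K)).rootMultiplicity x)
    (hε : ε = 0 ∨ finrank F (LinearMap.ker (ap g - algebraMap F (Module.End F (ι → F)) 1)) ≠ 1 ∧ ε = 1) :
    ∃ N ∈ table, aeval (ap g) (P (val (Fintype.card F) p N)) = 0 := by
  obtain ⟨N, hN, hr, hroots⟩ := exists_entry hG h2 g hdk hsp hn
  have hpos : 0 < val (Fintype.card F) p N := Nat.mul_pos hr (pow_pos (Fact.out : p.Prime).pos _)
  have hcp : LinearMap.charpoly (ap g) = ((g : GL ι F) : Matrix ι ι F).charpoly := by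
    rw [← LinearMap.charpoly_toMatrix (ap g) (Pi.basisFun F ι), LinearMap.toMatrix_eq_toMatrix']
    congr 1
    exact LinearMap.toMatrix'_toLin' _
  have hm := hcp ▸ LinearMap.minpoly_dvd_charpoly (ap g)
  have h1 : ε = 1 → (minpoly F (ap g)).rootMultiplicity 1 ≤
      ((g : GL ι F) : Matrix ι ι F).charpoly.rootMultiplicity 1 - 1 := fun he => by
    rcases hε with h | ⟨hk, -⟩
    · omega
    · rw [← hcp]; exact rootMultiplicity_minpoly_le (ap g) 1 hk
  have hneg : (minpoly F (ap g)).rootMultiplicity (-1) ≤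
      ((g : GL ι F) : Matrix ι ι F).charpoly.rootMultiplicity (-1) - 1 := by
    rw [← hcp]; exact rootMultiplicity_minpoly_le (ap g) (-1) (ker_add_one_ne_one hG h2 g hdk)
  refine ⟨N, hN, minpoly_dvd_of_roots g _ (hP _ hpos) fun x => ?_⟩
  exact mult_le h2 _ _ _ hm (Matrix.charpoly_monic _).ne_zero (le_pow_clog (p := p) N)
    (show ε ≤ 1 by omega) x h1 hneg (hroots x) (hPm _ x _ _ hr)

theorem exists_bound_nine (hG : Good Q) (h2 : (2 : F) ≠ 0) (g : IsoGrp Q) (hdk : dick g = 1) (hsp : spin g = 1)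
    (hn : Fintype.card ι ≤ 9) : ∃ N ∈ table, g ^ val (Fintype.card F) p N = 1 := by
  obtain ⟨N, hN, h⟩ := exists_aeval_eq_zero (p := p) hG h2 g hdk hsp hn (fun n => X ^ n - 1) 0
    (fun n hn => by rw [← Polynomial.C_1]; exact X_pow_sub_C_ne_zero hn 1)
    (fun K _ _ x r e hr hx => by
      classical
      haveI : CharP K p := charP_of_injective_ringHom (algebraMap F K).injective p
      simp only [ite_self, tsub_zero, Polynomial.map_sub, Polynomial.map_pow, map_X, Polynomial.map_one, pow_mul]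
      rw [← one_pow (p ^ e), ← sub_pow_char_pow]
      exact rootMultiplicity_pow_sub_one hr hx)
    (Or.inl rfl)
  refine ⟨N, hN, ext_ap fun x => ?_⟩
  rw [map_sub, map_pow, aeval_X, map_one, sub_eq_zero] at h
  have hpow : ∀ (k : ℕ) y, ap (g ^ k) y = (ap g ^ k) y := by
    intro k
    induction k with
    | zero => simp
    | succ k ih => intro y; rw [pow_succ, pow_succ, ap_mul, ih]; rfl
  rw [hpow, h, ap_one]; rfl

theorem exists_bound_eight (hG : Good Q) (h2 : (2 : F) ≠ 0) (g : IsoGrp Q) (hdk : dick g = 1) (hsp : spin g = 1)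
    (hn : Fintype.card ι = 8) :
    ∃ N ∈ table, ∑ i ∈ Finset.range (val (Fintype.card F) p N), ap g ^ i = 0 := by
  obtain ⟨N, hN, h⟩ := exists_aeval_eq_zero (p := p) hG h2 g hdk hsp (by omega)
    (fun n => ∑ i ∈ Finset.range n, X ^ i) 1 (fun n hn => geom_sum_ne_zero hn)
    (fun K _ _ x r e hr hx => by
      classical
      haveI : CharP K p := charP_of_injective_ringHom (algebraMap F K).injective p
      set N := r * p ^ e with hN
      have hN0 : 0 < N := Nat.mul_pos hr (pow_pos (Fact.out : p.Prime).pos _)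
      have hge : p ^ e ≤ (((∑ i ∈ Finset.range N, (X : F[X]) ^ i).map (algebraMap F K)) * (X - 1)).rootMultiplicity x := by
        simp only [Polynomial.map_sum, Polynomial.map_pow, map_X, geom_sum_mul, hN, pow_mul]
        rw [← one_pow (p ^ e), ← sub_pow_char_pow]
        exact rootMultiplicity_pow_sub_one hr hx
      have hne : (∑ i ∈ Finset.range N, (X : F[X]) ^ i).map (algebraMap F K) ≠ 0 :=
        (Polynomial.map_ne_zero_iff (algebraMap F K).injective).2 (geom_sum_ne_zero hN0)
      rw [rootMultiplicity_mul (mul_ne_zero hne (by rw [← Polynomial.C_1]; exact X_sub_C_ne_zero 1))] at hge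
      have hX : ((X : K[X]) - 1).rootMultiplicity x = if x = 1 then 1 else 0 := by
        rw [← Polynomial.C_1, rootMultiplicity_X_sub_C]
      rw [hX] at hge
      split at hge <;> simp_all <;> omega)
    (Or.inr ⟨by
      have hsum := LinearMap.finrank_range_add_finrank_ker (ap g - algebraMap F (Module.End F (ι → F)) 1)
      rw [Module.finrank_pi, hn] at hsum
      have hr : LinearMap.range (ap g - algebraMap F (Module.End F (ι → F)) 1) = resSpace g := by
        rw [resSpace, map_one]; rfl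
      have hev : Even (finrank F (resSpace g)) := by
        rw [dick] at hdk
        exact (neg_one_pow_eq_one_iff_even (R := ℤ) (by norm_num)).1 hdk
      rw [hr] at hsum
      obtain ⟨k, hk⟩ := hev
      omega, rfl⟩)
  exact ⟨N, hN, by simpa using h⟩

end Cfsg.Agent.SpecOmNine
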