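/-
Affine isometries with given Dickson and spinor invariants, and their orthogonal sums.
* `Piece Q N σ t` : order a multiple of `N`, trivial Dickson invariant, spinor `σ`; `t` allows a translation
* `sumForm`, `Piece.prod`, `Piece.congr`, `Piece.half`, `piece_of_odd`
-/
import Cfsg.Agent.Lib.SpecOmNine.Spin
import Cfsg.Agent.Lib.SpecSpEight.Affine

set_option autoImplicit false
set_option linter.unusedSectionVars false

namespace Cfsg.Agent.SpecOmNine

open Module Matrix Cfsg.Agent.Orth Cfsg.Agent.SpecSpEight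
open QuadraticMap (polar)

variable {F : Type*} [Field F]
variable {ι κ : Type} [Fintype ι] [DecidableEq ι] [Fintype κ] [DecidableEq κ]

/-- The linear equivalence of an isometry. -/
noncomputable def lin {Q : QuadraticForm F (ι → F)} (g : IsoGrp Q) : (ι → F) ≃ₗ[F] (ι → F) :=
  (Forms.isometryGroupEquiv ⇑Q g).1

theorem lin_apply {Q : QuadraticForm F (ι → F)} (g : IsoGrp Q) (x : ι → F) : lin g x = ap g x := by
  rw [lin, Forms.isometryGroupEquiv_apply, ap_apply]

theorem lin_iso {Q : QuadraticForm F (ι → F)} (g : IsoGrp Q) (x : ι → F) : Q (lin g x) = Q x := by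
  rw [lin_apply, Q_ap]

theorem lin_mul {Q : QuadraticForm F (ι → F)} (g h : IsoGrp Q) : lin (g * h) = lin g * lin h :=
  LinearEquiv.ext fun x => by rw [LinearEquiv.mul_apply, lin_apply, lin_apply, lin_apply, ap_mul]

theorem lin_one {Q : QuadraticForm F (ι → F)} : lin (1 : IsoGrp Q) = 1 :=
  LinearEquiv.ext fun x => by rw [lin_apply, ap_one]; rfl

theorem lin_pow {Q : QuadraticForm F (ι → F)} (g : IsoGrp Q) : ∀ k : ℕ, lin (g ^ k) = lin g ^ k
  | 0 => by rw [pow_zero, pow_zero, lin_one]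
  | k + 1 => by rw [pow_succ, pow_succ, lin_mul, lin_pow g k]

theorem orderOf_lin {Q : QuadraticForm F (ι → F)} (g : IsoGrp Q) : orderOf (lin g) = orderOf g := by
  rw [lin, Subgroup.orderOf_coe, MulEquiv.orderOf_eq]

/-- An affine isometry with trivial Dickson invariant; `t = false` : no translation. -/
def Piece (Q : QuadraticForm F (ι → F)) [Fintype F] (N : ℕ) (σ : ℤ) (t : Bool) : Prop :=
  ∃ (g : IsoGrp Q) (v : ι → F), (t = false → v = 0) ∧ dick g = 1 ∧ spin g = σ ∧ N ∣ orderOf (aff (lin g) v)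

theorem aff_zero_pow (h : (ι → F) ≃ₗ[F] (ι → F)) (k : ℕ) : aff h 0 ^ k = aff (h ^ k) 0 := by
  rw [aff_pow]
  congr 1
  simp

theorem orderOf_aff_zero (h : (ι → F) ≃ₗ[F] (ι → F)) : orderOf (aff h 0) = orderOf h := by
  refine Nat.dvd_antisymm (orderOf_dvd_of_pow_eq_one ?_) (orderOf_dvd_orderOf_aff h 0)
  rw [aff_zero_pow, pow_orderOf_eq_one, aff_one]

variable [Fintype F] {Q : QuadraticForm F (ι → F)} {Q' : QuadraticForm F (κ → F)}

theorem Piece.mono {N M : ℕ} {σ : ℤ} {t : Bool} (h : Piece Q N σ t) (hM : M ∣ N) : Piece Q M σ t := by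
  obtain ⟨g, v, h1, h2, h3, h4⟩ := h; exact ⟨g, v, h1, h2, h3, hM.trans h4⟩

theorem Piece.allow {N : ℕ} {σ : ℤ} {t : Bool} (h : Piece Q N σ t) : Piece Q N σ true := by
  obtain ⟨g, v, -, h2, h3, h4⟩ := h; exact ⟨g, v, fun e => absurd e (by simp), h2, h3, h4⟩

/-- Transport along an isometry. -/
theorem Piece.congr {N : ℕ} {σ : ℤ} {t : Bool} (h : Piece Q N σ t) (e : (κ → F) ≃ₗ[F] (ι → F))
    (he : ∀ w, Q (e w) = Q' w) : Piece Q' N σ t := by
  obtain ⟨g, v, h1, h2, h3, h4⟩ := h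
  obtain ⟨g', hg'⟩ := exists_isoGrp (Q := Q') (SpecSpEight.conj e (lin g)) (iso_conj e he (lin_iso g))
  have hap : ∀ w, ap g' w = e.symm (ap g (e w)) := fun w => by
    rw [hg']; simp [SpecSpEight.conj, lin_apply]
  have hres : resSpace g' ≤ (resSpace g).map e.symm.toLinearMap := by
    rintro w hw
    obtain ⟨x, rfl⟩ := mem_resSpace.1 hw
    exact ⟨_, sub_mem_resSpace g (e x), by simp [hap, map_sub]⟩
  obtain ⟨hs, hd⟩ := spin_transport e.symm.toLinearMap e.symm.injective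
    (fun x => by rw [← he]; simp) g g' (fun x => by simp [hap]) hres
  refine ⟨g', e.symm v, fun ht => by rw [h1 ht, map_zero], hd.trans h2, hs.trans h3, ?_⟩
  have hl : lin g' = SpecSpEight.conj e (lin g) := LinearEquiv.ext fun w => by rw [lin_apply, hg']; rfl
  rwa [hl, orderOf_aff_conj]

variable (Q Q') in
/-- The orthogonal sum. -/
def sumForm : QuadraticForm F (ι ⊕ κ → F) :=
  Q.comp (LinearMap.funLeft F F Sum.inl) + Q'.comp (LinearMap.funLeft F F Sum.inr)

theorem sumForm_apply (w : ι ⊕ κ → F) :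
    sumForm Q Q' w = Q (fun i => w (.inl i)) + Q' (fun i => w (.inr i)) := rfl

theorem polar_sumForm (u w : ι ⊕ κ → F) : polar (⇑(sumForm Q Q')) u w =
    polar (⇑Q) (fun i => u (.inl i)) (fun i => w (.inl i)) + polar (⇑Q') (fun i => u (.inr i)) (fun i => w (.inr i)) := by
  simp only [polar, sumForm_apply]
  show Q ((fun i => u (.inl i)) + fun i => w (.inl i)) + Q' ((fun i => u (.inr i)) + fun i => w (.inr i)) - _ - _ = _
  ring

theorem sumForm_nd (hQ : Q.polarBilin.Nondegenerate) (hQ' : Q'.polarBilin.Nondegenerate) :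
    (sumForm Q Q').polarBilin.Nondegenerate := by
  rw [Forms.nondegenerate_polarBilin_iff] at hQ hQ' ⊢
  intro x hx
  have h1 : (fun i => x (.inl i)) = 0 := hQ _ fun y => by
    have h := hx (Sum.elim y 0)
    rw [polar_sumForm] at h
    simp only [Sum.elim_inl, Sum.elim_inr] at h
    rwa [show (fun i => (0 : κ → F) i) = 0 from rfl, pl_zero_right, add_zero] at h
  have h2 : (fun i => x (.inr i)) = 0 := hQ' _ fun y => by
    have h := hx (Sum.elim 0 y)
    rw [polar_sumForm] at h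
    simp only [Sum.elim_inl, Sum.elim_inr] at h
    rwa [show (fun i => (0 : ι → F) i) = 0 from rfl, pl_zero_right, zero_add] at h
  funext i
  rcases i with i | i
  · exact congrFun h1 i
  · exact congrFun h2 i

theorem Piece.prod (h2 : (2 : F) ≠ 0) (hQ : Q.polarBilin.Nondegenerate) (hQ' : Q'.polarBilin.Nondegenerate)
    {N M : ℕ} {σ τ : ℤ} {t t' : Bool} (h : Piece Q N σ t) (h' : Piece Q' M τ t') :
    Piece (sumForm Q Q') (Nat.lcm N M) (σ * τ) (t || t') := by
  obtain ⟨g, v, a1, a2, a3, a4⟩ := h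
  obtain ⟨g', v', b1, b2, b3, b4⟩ := h'
  have hG := Good.of_two_ne_zero (sumForm_nd hQ hQ') h2
  let e : (ι ⊕ κ → F) ≃ₗ[F] (ι → F) × (κ → F) := LinearEquiv.sumArrowLequivProdArrow ι κ F F
  have heQ : ∀ w, Q (e w).1 + Q' (e w).2 = sumForm Q Q' w := fun w => rfl
  have hmk : ∀ (A : IsoGrp Q) (B : IsoGrp Q'), ∃ G : IsoGrp (sumForm Q Q'),
      lin G = SpecSpEight.conj e ((lin A).prodCongr (lin B)) := by
    intro A B
    obtain ⟨G, hG'⟩ := exists_isoGrp (Q := sumForm Q Q') (SpecSpEight.conj e ((lin A).prodCongr (lin B)))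
      (iso_conj (Q := fun p : (ι → F) × (κ → F) => Q p.1 + Q' p.2) e heQ fun p => by simp [lin_iso])
    exact ⟨G, LinearEquiv.ext fun w => by rw [lin_apply, hG']; rfl⟩
  obtain ⟨G₁, hG₁⟩ := hmk g 1
  obtain ⟨G₂, hG₂⟩ := hmk 1 g'
  have hG12 : lin (G₁ * G₂) = SpecSpEight.conj e ((lin g).prodCongr (lin g')) := by
    rw [lin_mul, hG₁, hG₂, ← SpecSpEight.conj_mul, lin_one, lin_one]
    rfl
  let ψ₁ : (ι → F) →ₗ[F] (ι ⊕ κ → F) :=
    e.symm.toLinearMap ∘ₗ LinearMap.inl F (ι → F) (κ → F)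
  let ψ₂ : (κ → F) →ₗ[F] (ι ⊕ κ → F) :=
    e.symm.toLinearMap ∘ₗ LinearMap.inr F (ι → F) (κ → F)
  obtain ⟨hs1, hd1⟩ := spin_transport ψ₁ (e.symm.injective.comp LinearMap.inl_injective)
    (fun x => by rw [← heQ]; simp [ψ₁]) g G₁
    (fun x => by rw [← lin_apply, hG₁]; simp [ψ₁, SpecSpEight.conj, lin_apply])
    (by
      rintro w hw
      obtain ⟨x, rfl⟩ := mem_resSpace.1 hw
      refine ⟨_, sub_mem_resSpace g (e x).1, e.injective ?_⟩
      rw [map_sub, map_sub, ← lin_apply (g := G₁), hG₁]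
      simp [ψ₁, SpecSpEight.conj, lin_apply, lin_one, Prod.ext_iff])
  obtain ⟨hs2, hd2⟩ := spin_transport ψ₂ (e.symm.injective.comp LinearMap.inr_injective)
    (fun x => by rw [← heQ]; simp [ψ₂]) g' G₂
    (fun x => by rw [← lin_apply, hG₂]; simp [ψ₂, SpecSpEight.conj, lin_apply])
    (by
      rintro w hw
      obtain ⟨x, rfl⟩ := mem_resSpace.1 hw
      refine ⟨_, sub_mem_resSpace g' (e x).2, e.injective ?_⟩
      rw [map_sub, map_sub, ← lin_apply (g := G₂), hG₂]
      simp [ψ₂, SpecSpEight.conj, lin_apply, lin_one, Prod.ext_iff])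
  refine ⟨G₁ * G₂, e.symm (v, v'), fun ht => ?_, ?_, ?_, ?_⟩
  · rw [Bool.or_eq_false_iff] at ht
    rw [a1 ht.1, b1 ht.2, Prod.mk_zero_zero, map_zero]
  · rw [dick_mul hG, hd1, hd2, a2, b2, one_mul]
  · rw [spin_mul hG, hs1, hs2, a3, b3]
  · rw [hG12, orderOf_aff_conj, orderOf_aff_prod]
    exact Nat.lcm_dvd (a4.trans (Nat.dvd_lcm_left _ _)) (b4.trans (Nat.dvd_lcm_right _ _))

/-- Squaring kills the spinor invariant. -/
theorem Piece.half (hG : Good Q) {N : ℕ} {σ : ℤ} {t : Bool} (h : Piece Q N σ t) (hN : 2 ∣ N) :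
    Piece Q (N / 2) 1 false ∨ t = true := by
  cases t
  · left
    obtain ⟨g, v, h1, h2, h3, h4⟩ := h
    rw [h1 rfl, orderOf_aff_zero, orderOf_lin] at h4
    refine ⟨g ^ 2, 0, fun _ => rfl, ?_, ?_, ?_⟩
    · rw [sq, dick_mul hG, h2, one_mul]
    · rw [sq, spin_mul hG]
      rcases spin_eq_or hG g with hs | hs <;> rw [hs] <;> norm_num
    · rw [orderOf_aff_zero, orderOf_lin, orderOf_pow_of_dvd two_ne_zero (hN.trans h4)]
      exact Nat.div_dvd_div hN h4
  · exact Or.inr rfl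

theorem Piece.halve (hG : Good Q) {N : ℕ} {σ : ℤ} (h : Piece Q N σ false) (hN : 2 ∣ N) : Piece Q (N / 2) 1 false :=
  (h.half hG hN).resolve_right (by simp)

/-- A linear isometry of odd order. -/
theorem piece_of_odd (hG : Good Q) (g : IsoGrp Q) (ho : Odd (orderOf g)) (v : ι → F) (t : Bool)
    (ht : t = false → v = 0) {N : ℕ} (hN : N ∣ orderOf (aff (lin g) v)) : Piece Q N 1 t := by
  refine ⟨g, v, ht, ?_, ?_, hN⟩
  · have h1 : dickHom hG g ^ orderOf g = 1 := by rw [← map_pow, pow_orderOf_eq_one, map_one]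
    rcases dick_eq_or g with h | h
    · exact h
    · rw [dickHom_apply, h, ho.neg_one_pow] at h1; norm_num at h1
  · have h1 : spinHom hG g ^ orderOf g = 1 := by rw [← map_pow, pow_orderOf_eq_one, map_one]
    rcases spin_eq_or hG g with h | h
    · exact h
    · rw [spinHom_apply, h, ho.neg_one_pow] at h1; norm_num at h1

/-- A translation. -/
theorem piece_translation (hG : Good Q) {p : ℕ} [Fact p.Prime] [CharP F p] [Nonempty ι] : Piece Q p 1 true := by
  obtain ⟨v, hv⟩ := exists_ne (0 : ι → F)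
  refine piece_of_odd hG 1 (by simp) v true (fun h => absurd h (by simp)) (dvd_of_eq ?_)
  rw [lin_one]
  refine (orderOf_eq_prime ?_ (fun h => hv (aff_inj (h.trans aff_one.symm)).2)).symm
  rw [aff_pow, one_pow, ← aff_one (F := F)]
  congr 1
  simp

end Cfsg.Agent.SpecOmNine
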