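/-
Maximal cyclic tori of the orthogonal groups in odd characteristic and their spinor invariants.
* `piece_plus` : order `q ^ d - 1`, spinor `-1`, plus type
* `piece_minus` : order `q ^ d + 1`, spinor `-1`, minus type
-/
import Cfsg.Agent.Lib.SpecOmNine.Piece
import Cfsg.Agent.Lib.SpecOmNine.Orbit
import Cfsg.Agent.Lib.OrthLevi.Basic
import Cfsg.Agent.Lib.Forms.Bases
import Cfsg.Agent.Lib.Forms.Count
import Cfsg.Agent.Lib.GLOrder.SympAlg

set_option autoImplicit false
set_option linter.unusedSectionVars false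

namespace Cfsg.Agent.SpecOmNine

open Module Matrix Cfsg.Agent.Orth Cfsg.Agent.SpecSpEight

universe u

variable {F : Type u} [Field F] [Fintype F]

theorem ringChar_ne_two (h2 : (2 : F) ≠ 0) : ringChar F ≠ 2 := fun h => h2 (by
  have := ringChar.charP F
  have := CharP.cast_eq_zero F (ringChar F)
  rw [h] at this; exact_mod_cast this)

open Classical in
theorem piece_plus (h2 : (2 : F) ≠ 0) {d : ℕ} (hd : 1 ≤ d) :
    Piece (Forms.qfPlus d F) (Fintype.card F ^ d - 1) (-1) false := by
  obtain ⟨L, _, _, hrk, _, hcard⟩ := GLOrder.exists_extension F hd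
  haveI : Module.Finite F L := Module.Finite.of_finite
  letI := Fintype.ofFinite L
  let b : Basis (Fin d) F L := Module.finBasisOfFinrankEq F L hrk
  let φ : Lˣ →* GL (Fin d) F := Units.map (Algebra.leftMulMatrix b).toRingHom.toMonoidHom
  have hφ : Function.Injective φ := fun x y h => Units.ext (Algebra.leftMulMatrix_injective b (congrArg Units.val h))
  let ψ : GL (Fin d) F →* IsoGrp (Forms.qfPlus d F) :=
    { toFun := OrthLevi.levi, map_one' := OrthLevi.levi_one, map_mul' := OrthLevi.levi_mul }
  have hψ : Function.Injective ψ := fun A B h => Units.ext (by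
    have h' := congrArg (fun z : IsoGrp (Forms.qfPlus d F) =>
      ((z : GL (Fin d ⊕ Fin d) F) : Matrix (Fin d ⊕ Fin d) (Fin d ⊕ Fin d) F).toBlocks₁₁) h
    simpa [ψ, OrthLevi.levi_mat, OrthLevi.leviMat] using h')
  obtain ⟨g, hg⟩ := IsCyclic.exists_ofOrder_eq_natCard (α := Lˣ)
  have hq2 : Fintype.card F ≠ 2 := fun h => h2 (by
    have := FiniteField.cast_card_eq_zero F
    rw [h] at this; exact_mod_cast this)
  refine ⟨ψ (φ g), 0, fun _ => rfl, OrthLevi.dick_levi _, ?_, ?_⟩
  · rw [show ψ (φ g) = OrthLevi.levi (φ g) from rfl, OrthLevi.spin_levi (Or.inl hq2)]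
    have hdet : ((φ g : GL (Fin d) F) : Matrix (Fin d) (Fin d) F).det = Algebra.norm F (g : L) :=
      (Algebra.norm_eq_matrix_det b (g : L)).symm
    rw [hdet]
    haveI : Finite F := inferInstance
    obtain ⟨y, hy⟩ := FiniteField.exists_nonsquare (F := F) (ringChar_ne_two h2)
    have hy0 : y ≠ 0 := fun h => hy (by rw [h]; exact IsSquare.zero)
    obtain ⟨x, hx⟩ := FiniteField.norm_surjective F L y
    have hx0 : x ≠ 0 := fun h => hy0 (by rw [← hx, h, Algebra.norm_zero])
    obtain ⟨i, hi⟩ : ∃ i : ℕ, g ^ i = Units.mk0 x hx0 := by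
      have : Units.mk0 x hx0 ∈ Subgroup.zpowers g := by
        rw [Subgroup.eq_top_of_card_eq (Subgroup.zpowers g) (by rw [Nat.card_zpowers, hg])]
        exact Subgroup.mem_top _
      exact (Submonoid.mem_powers_iff _ _).1 ((mem_powers_iff_mem_zpowers).2 this)
    have hne : Algebra.norm F (g : L) ≠ 0 := fun h => g.ne_zero (Algebra.norm_eq_zero_iff.1 h)
    rcases quadraticChar_dichotomy hne with h | h
    · exfalso
      have h' := quadraticChar_neg_one_iff_not_isSquare.2 hy
      rw [← hx, ← Units.val_mk0 hx0, ← hi, Units.val_pow_eq_pow_val, map_pow, map_pow, h, one_pow] at h'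
      norm_num at h'
    · exact h
  · rw [orderOf_aff_zero, orderOf_lin, orderOf_injective ψ hψ, orderOf_injective φ hφ, hg, Nat.card_units, hcard,
      Nat.card_eq_fintype_card]

open Classical in
theorem piece_minus (h2 : (2 : F) ≠ 0) {a b : F}
    (hab : ∀ x y : F, x ^ 2 + a * x * y + b * y ^ 2 = 0 → x = 0 ∧ y = 0) (m : ℕ) :
    Piece (Forms.qfMinus m F a b) (Fintype.card F ^ (m + 1) + 1) (-1) false := by
  set d := m + 1 with hd
  obtain ⟨L, _, _, hrk, _, hcard⟩ := GLOrder.exists_extension F (d := d + d) (by omega)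
  haveI : Module.Finite F L := Module.Finite.of_finite
  letI := Fintype.ofFinite L
  set q := Fintype.card F with hq
  rw [Nat.card_eq_fintype_card, Nat.card_eq_fintype_card, ← hq] at hcard
  have hr2 : ringChar F ≠ 2 := ringChar_ne_two h2
  have hqodd : Odd q := Nat.odd_iff.2 (FiniteField.odd_card_of_char_ne_two hr2)
  have hq1 : 1 < q := Fintype.one_lt_card
  have hq3 : 3 ≤ q := by obtain ⟨k, hk⟩ := hqodd; omega
  have h2L : (2 : L) ≠ 0 := fun h => h2 ((algebraMap F L).injective (by rw [map_ofNat, map_zero]; exact h))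
  let σ : L ≃ₐ[F] L := (FiniteField.frobeniusAlgEquivOfAlgebraic F L) ^ d
  have hσ : ∀ x, σ x = x ^ q ^ d := fun x => by
    show ((FiniteField.frobeniusAlgEquivOfAlgebraic F L) ^ d) x = _
    rw [AlgEquiv.coe_pow, FiniteField.coe_frobeniusAlgEquivOfAlgebraic_iterate]
  have hσσ : ∀ x, σ (σ x) = x := fun x => by
    rw [hσ, hσ, ← pow_mul, ← pow_add, ← hcard, FiniteField.pow_card]
  have hdq : 1 < q ^ d := Nat.one_lt_pow (by omega) hq1
  obtain ⟨g, hg⟩ := IsCyclic.exists_ofOrder_eq_natCard (α := Lˣ)
  rw [Nat.card_units, Nat.card_eq_fintype_card, hcard] at hg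
  have hNat : (q ^ d + 1) * (q ^ d - 1) = q ^ (d + d) - 1 := by
    have h := Nat.sq_sub_sq (q ^ d) 1
    rw [one_pow, ← pow_mul, mul_two] at h
    exact h.symm
  set u := g ^ (q ^ d - 1) with hu
  have huo : orderOf u = q ^ d + 1 := by
    rw [hu, orderOf_pow_of_dvd (by omega) (hg ▸ hNat ▸ Dvd.intro_left _ rfl), hg, ← hNat,
      Nat.mul_div_cancel _ (by omega)]
  have hupow : (u : L) ^ (q ^ d + 1) = 1 := by
    rw [← Units.val_pow_eq_pow_val, ← huo, pow_orderOf_eq_one, Units.val_one]
  have huσ : (u : L) * σ u = 1 := by rw [hσ, ← pow_succ', hupow]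
  let c : L := (2 : L)⁻¹
  have hc : c + σ c = 1 := by
    rw [show σ c = c by simp [c, map_inv₀, map_ofNat], ← two_mul, mul_inv_cancel₀ h2L]
  let B : LinearMap.BilinForm F L :=
    ((LinearMap.mul F L).compl₂ σ.toLinearMap).compr₂ ((Algebra.trace F L).comp (LinearMap.mulLeft F c))
  have hB : ∀ x y, B x y = Algebra.trace F L (c * (x * σ y)) := fun x y => rfl
  let Q : QuadraticForm F L := LinearMap.BilinMap.toQuadraticMap B
  have hQ : ∀ x, Q x = Algebra.trace F L (c * (x * σ x)) := fun x => rfl
  have hpol : ∀ x y, QuadraticMap.polar Q x y = Algebra.trace F L (x * σ y) := fun x y => by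
    have e : Algebra.trace F L (c * (y * σ x)) = Algebra.trace F L (σ c * (x * σ y)) := by
      rw [← Algebra.trace_eq_of_algEquiv σ (c * (y * σ x)), map_mul σ, map_mul σ, hσσ, mul_comm (σ y) x]
    have h1 : QuadraticMap.polar Q x y = B x y + B y x := LinearMap.BilinMap.polar_toQuadraticMap x y
    rw [h1, hB, hB, e, ← map_add, ← add_mul, hc, one_mul]
  have hnd : (QuadraticMap.polarBilin Q).Nondegenerate := (Forms.nondegenerate_polarBilin_iff Q).2 fun x hx =>
    (traceForm_nondegenerate F L).1 x fun z => by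
      have := hx (σ z)
      rwa [hpol, hσσ] at this
  let T : L ≃ₗ[F] L := LinearEquiv.ofLinearMap (LinearMap.mulLeft F (u : L)) (LinearMap.mulLeft F ((u⁻¹ : Lˣ) : L))
    (LinearMap.ext fun x => by simp) (LinearMap.ext fun x => by simp)
  have hTQ : ∀ x, Q (T x) = Q x := fun x => by
    rw [hQ, hQ]
    show Algebra.trace F L (c * ((u : L) * x * σ ((u : L) * x))) = _
    rw [map_mul σ, mul_mul_mul_comm, huσ, one_mul]
  let bL : Basis (Fin (d + d)) F L := Module.finBasisOfFinrankEq F L hrk
  let Qc : QuadraticForm F (Fin (d + d) → F) := Q.comp bL.equivFun.symm.toLinearMap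
  have hQc : ∀ w, Q (bL.equivFun.symm w) = Qc w := fun w => rfl
  have hndc : Qc.polarBilin.Nondegenerate :=
    Forms.nondegenerate_congr Q Qc bL.equivFun 1 one_ne_zero (fun v => by
      rw [← hQc, LinearEquiv.symm_apply_apply, one_mul]) hnd
  have hGc := Good.of_two_ne_zero hndc h2
  obtain ⟨G, hG⟩ := exists_isoGrp (Q := Qc) (SpecSpEight.conj bL.equivFun.symm T)
    (iso_conj bL.equivFun.symm hQc hTQ)
  have hlinG : lin G = SpecSpEight.conj bL.equivFun.symm T :=
    LinearEquiv.ext fun w => by rw [lin_apply, hG]; rfl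
  have hord : orderOf G = q ^ d + 1 := by
    rw [← orderOf_lin, hlinG, SpecSpEight.orderOf_conj, ← huo]
    let φ : Lˣ →* (L ≃ₗ[F] L) :=
      { toFun := fun z => LinearEquiv.ofLinearMap (LinearMap.mulLeft F (z : L)) (LinearMap.mulLeft F ((z⁻¹ : Lˣ) : L))
          (LinearMap.ext fun x => by simp) (LinearMap.ext fun x => by simp)
        map_one' := LinearEquiv.ext fun x => by simp
        map_mul' := fun z w => LinearEquiv.ext fun x => by simp [LinearEquiv.mul_apply, mul_assoc] }
    exact orderOf_injective φ (fun z w h => Units.ext (by simpa [φ] using LinearEquiv.congr_fun h 1)) u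
  have hdet : (1 + ((G : GL (Fin (d + d)) F) : Matrix (Fin (d + d)) (Fin (d + d)) F)).det
      = Algebra.norm F (1 + (u : L)) := by
    rw [Algebra.norm_eq_matrix_det bL, map_add, map_one]
    congr 2
    refine Matrix.ext_of_mulVec_single fun i => ?_
    rw [← ap_apply, hG]
    show bL.equivFun ((u : L) * bL.equivFun.symm (Pi.single i 1)) = _
    rw [Algebra.leftMulMatrix_apply, Matrix.mulVec_single_one]
    funext k
    simp [LinearMap.toMatrix_apply, Basis.equivFun_symm_apply, Basis.equivFun_apply]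
  have hu1 : ∀ i, 1 + (u : L) ^ q ^ i ≠ 0 := by
    intro i h
    have h' : ((u : L) ^ q ^ i) ^ 2 = 1 := by rw [show (u : L) ^ q ^ i = -1 by linear_combination h]; ring
    rw [← pow_mul, ← Units.val_pow_eq_pow_val, Units.val_eq_one] at h'
    have hdvd := orderOf_dvd_of_pow_eq_one h'
    rw [huo] at hdvd
    have hd2 : q ^ d + 1 ∣ 2 := by
      refine (Nat.Coprime.dvd_mul_left ?_).1 hdvd
      have hc : Nat.Coprime (q ^ d + 1) q := by
        obtain ⟨m', hm'⟩ := dvd_pow_self q (show d ≠ 0 by omega)
        rw [hm', add_comm]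
        exact (Nat.coprime_add_mul_left_left 1 q m').2 (Nat.coprime_one_left q)
      exact hc.pow_right i
    have := Nat.le_of_dvd two_pos hd2
    omega
  have hd0 : (1 + ((G : GL (Fin (d + d)) F) : Matrix (Fin (d + d)) (Fin (d + d)) F)).det ≠ 0 := by
    rw [hdet]
    intro h
    exact hu1 0 (by rw [pow_zero, pow_one]; exact Algebra.norm_eq_zero_iff.1 h)
  obtain ⟨hsp, hdk⟩ := spin_eq_det hGc h2 G hd0
  have hpiece : Piece Qc (q ^ d + 1) (-1) false := by
    refine ⟨G, 0, fun _ => rfl, hdk, ?_, by rw [orderOf_aff_zero, orderOf_lin, hord]⟩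
    rcases spin_eq_or hGc G with h | h
    swap
    · exact h
    exfalso
    rw [hsp, hdet] at h
    have hne : Algebra.norm F (1 + (u : L)) * 2 ^ Fintype.card (Fin (d + d)) ≠ 0 :=
      mul_ne_zero (hdet ▸ hd0) (pow_ne_zero _ h2)
    have hpow := (FiniteField.isSquare_iff hr2 hne).1 ((quadraticChar_one_iff_isSquare hne).1 h)
    have hK := congrArg (algebraMap F L) hpow
    rw [map_pow, map_mul, map_pow, map_one, map_ofNat, FiniteField.algebraMap_norm_eq_prod_pow, hrk,
      Nat.card_eq_fintype_card, ← hq, Fintype.card_fin] at hK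
    have hsplit : ∏ i ∈ Finset.range (d + d), (1 + (u : L)) ^ q ^ i =
        ∏ i ∈ Finset.range d, (1 + (u : L) ^ q ^ i) * (1 + ((u : L) ^ q ^ i)⁻¹) := by
      have hfr : ∀ i, (1 + (u : L)) ^ q ^ i = 1 + (u : L) ^ q ^ i := by
        intro i
        induction i with
        | zero => simp
        | succ i ih =>
          rw [pow_succ, pow_mul, ih]
          show (FiniteField.frobeniusAlgHom F L) _ = _
          rw [map_add, map_one, pow_mul]
          rfl
      simp only [hfr]
      rw [Finset.prod_range_add, ← Finset.prod_mul_distrib]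
      refine Finset.prod_congr rfl fun i _ => ?_
      rw [pow_add, pow_mul, ← hσ, show σ (u : L) = ((u : L))⁻¹ from eq_inv_of_mul_eq_one_right huσ, inv_pow]
    have horb := orbit_prod_pow (K := L) (q := q) (fun x y => (FiniteField.frobeniusAlgHom F L).toRingHom.map_add x y)
      hqodd (show 1 ≤ d by omega) true (l := (u : L)) u.ne_zero
      (by rw [if_pos rfl, ← hσ]; exact eq_inv_of_mul_eq_one_right huσ) (fun i _ => hu1 i)
    have h2q : (2 : L) ^ (q - 1) = 1 := by
      rw [show (2 : L) = algebraMap F L 2 by rw [map_ofNat], ← map_pow, FiniteField.pow_card_sub_one_eq_one 2 h2, map_one]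
    rw [hsplit, mul_pow, ← pow_mul, show (d + d) * (q / 2) = (q - 1) * d by
      obtain ⟨k, hk⟩ := hqodd
      rw [show q / 2 = k by omega, show q - 1 = 2 * k by omega]; ring, pow_mul, h2q, one_pow, mul_one] at hK
    rw [hK, one_mul] at horb
    simp only [atomVal, if_true] at horb
    rw [← Units.val_pow_eq_pow_val, Units.val_eq_one, ← orderOf_dvd_iff_pow_eq_one, huo] at horb
    have h1 := Nat.le_of_dvd (Nat.div_pos (by omega) two_pos) horb
    have h2' : (q ^ d + 1) / 2 < q ^ d + 1 := Nat.div_lt_self (by omega) (by norm_num)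
    omega
  rcases Forms.classify_even Qc hndc (m := d) (by simp; ring) hab with ⟨e, he⟩ | ⟨-, e, he⟩
  · exfalso
    have hz : Nat.card {v // Forms.qfPlus d F v = 0} = Nat.card {x // Q x = 0} :=
      Nat.card_congr ((e.toEquiv.trans bL.equivFun.symm.toEquiv).subtypeEquiv fun v => by
        simp [← he, ← hQc])
    let H : Subgroup Lˣ := Subgroup.zpowers u
    let S : Set Lˣ := {z | Q (z : L) = 0}
    have hS : QuotientGroup.mk ⁻¹' (QuotientGroup.mk '' S : Set (Lˣ ⧸ H)) = S := by
      refine subset_antisymm ?_ (Set.subset_preimage_image _ _)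
      rintro z ⟨w, hw, hwz⟩
      obtain ⟨k, hk⟩ := (Submonoid.mem_powers_iff _ _).mp
        ((mem_powers_iff_mem_zpowers (x := u)).2 (QuotientGroup.eq.1 hwz))
      show Q (z : L) = 0
      have hz' : z = u ^ k * w := by rw [hk, mul_comm, mul_inv_cancel_left]
      rw [hz', Units.val_mul, Units.val_pow_eq_pow_val]
      clear hz' hk
      induction k with
      | zero => rw [pow_zero, one_mul]; exact hw
      | succ k ih => rw [pow_succ', mul_assoc]; exact (hTQ _).trans ih
    have hsplit : Nat.card {x // Q x = 0} = Nat.card ↥S + 1 := by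
      let f : Option ↥S → {x // Q x = 0} := fun o => o.elim ⟨0, QuadraticMap.map_zero Q⟩ fun z => ⟨(z.1 : L), z.2⟩
      have hf : Function.Bijective f := by
        refine ⟨?_, fun x => ?_⟩
        · intro o o' h
          have h' := congrArg Subtype.val h
          rcases o with _ | z <;> rcases o' with _ | z'
          · rfl
          · exact absurd h'.symm z'.1.ne_zero
          · exact absurd h' z.1.ne_zero
          · exact congrArg some (Subtype.ext (Units.ext h'))
        · rcases eq_or_ne x.1 0 with h0 | h0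
          · exact ⟨none, Subtype.ext h0.symm⟩
          · exact ⟨some ⟨Units.mk0 x.1 h0, x.2⟩, rfl⟩
      rw [← Nat.card_congr (Equiv.ofBijective f hf), Finite.card_option]
    have hP := Forms.card_zeros_qfPlus (F := F) m
    rw [hz, hsplit, Nat.card_eq_fintype_card (α := F), ← hq] at hP
    rcases Nat.eq_zero_or_pos m with rfl | hm
    · -- in dimension two the form has no zeros
      have hS0 : Nat.card ↥S = 0 := by
        have hz0 : ∀ z : Lˣ, Q (z : L) ≠ 0 := by
          intro z hz'
          have hN : (z : L) * σ z = algebraMap F L (Algebra.norm F (z : L)) := by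
            rw [FiniteField.algebraMap_norm_eq_prod_pow, hrk, show d + d = 2 by omega, Finset.prod_range_succ,
              Finset.prod_range_one, pow_zero, pow_one, hσ, Nat.card_eq_fintype_card, ← hq, show d = 1 by omega]
          rw [hQ, hN, show c = algebraMap F L (2 : F)⁻¹ by simp [c, map_inv₀, map_ofNat], ← map_mul,
            Algebra.trace_algebraMap, hrk, show d + d = 2 by omega, two_smul, ← two_mul, ← mul_assoc,
            mul_inv_cancel₀ h2, one_mul] at hz'
          exact z.ne_zero (Algebra.norm_eq_zero_iff.1 hz')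
        haveI : IsEmpty ↥S := ⟨fun z => hz0 z.1 z.2⟩
        simp
      rw [hS0] at hP
      norm_num at hP
      omega
    · have hdvd : q ^ d + 1 ∣ Nat.card ↥S := by
        rw [← huo, ← Nat.card_zpowers]
        exact ⟨_, by rw [← Nat.card_prod, ← Nat.card_congr (QuotientGroup.preimageMkEquivSubgroupProdSet H
          (QuotientGroup.mk '' S)), hS]⟩
      obtain ⟨w, hw⟩ := hdvd
      rw [hw] at hP
      push_cast at hP
      set x : ℤ := (q : ℤ) ^ m with hx
      rw [show (q : ℤ) ^ (2 * m + 1) = q * x * x by rw [hx]; ring,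
        show (q : ℤ) ^ (m + 1) = q * x by rw [hx]; ring] at hP
      have hqd : (q : ℤ) ^ d = q * x := by rw [hd, hx]; ring
      have hdiv : (q * x + 1 : ℤ) ∣ 2 * (x + 1) :=
        ⟨x + 1 - w, by linear_combination hP⟩
      have hq3' : (3 : ℤ) ≤ q := by exact_mod_cast hq3
      have hx3 : (3 : ℤ) ≤ x := le_trans hq3' (by
        rw [hx]; exact le_self_pow₀ (by omega) (by omega))
      have := Int.le_of_dvd (by omega) hdiv
      nlinarith
  · exact hpiece.congr e he

end Cfsg.Agent.SpecOmNine
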