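/-
Regular unipotent isometries in odd dimension, odd characteristic.
* `oddQ δ k` : the form `δ x₀² + Σ x_i y_i`
* `exists_regular` : an isometry with a single Jordan block
* `piece_regular`, `piece_regular_translation` : orders `p ^ ⌈log (2k+1)⌉`, `p ^ ⌈log (2k+2)⌉`
-/
import Cfsg.Agent.Lib.SpecOmNine.Piece

set_option autoImplicit false
set_option linter.unusedSectionVars false

namespace Cfsg.Agent.SpecOmNine

open Module Matrix Cfsg.Agent.Orth Cfsg.Agent.SpecSpEight

variable {F : Type*} [Field F]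

/-- `δ x₀² + Σ x_i y_i`. -/
def oddQ (δ : F) (k : ℕ) : QuadraticForm F (Unit ⊕ (Fin k ⊕ Fin k) → F) :=
  δ • QuadraticMap.proj (.inl ()) (.inl ()) + ∑ i : Fin k, QuadraticMap.proj (.inr (.inl i)) (.inr (.inr i))

theorem oddQ_apply (δ : F) (k : ℕ) (w : Unit ⊕ (Fin k ⊕ Fin k) → F) :
    oddQ δ k w = δ * (w (.inl ()) * w (.inl ())) + ∑ i : Fin k, w (.inr (.inl i)) * w (.inr (.inr i)) := by
  simp [oddQ]

theorem oddQ_one (k : ℕ) : ⇑(oddQ (1 : F) k) = Cfsg.quadFormOdd k F := by
  funext w; simp [oddQ_apply, Cfsg.quadFormOdd, pow_two]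

theorem oddQ_nd (h2 : (2 : F) ≠ 0) {δ : F} (hδ : δ ≠ 0) (k : ℕ) : (oddQ δ k).polarBilin.Nondegenerate := by
  rw [Forms.nondegenerate_polarBilin_iff]
  intro x hx
  funext i
  have h := hx (Pi.single (match i with
    | .inl () => .inl ()
    | .inr (.inl j) => .inr (.inr j)
    | .inr (.inr j) => .inr (.inl j)) 1)
  rcases i with ⟨⟨⟩⟩ | j | j
  · simp [QuadraticMap.polar, oddQ_apply] at h
    ring_nf at h
    simpa [hδ, h2] using h
  · simp [QuadraticMap.polar, oddQ_apply, Pi.single_apply, mul_add, add_mul, Finset.sum_add_distrib] at h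
    simpa using h
  · simp [QuadraticMap.polar, oddQ_apply, Pi.single_apply, mul_add, add_mul, Finset.sum_add_distrib] at h
    simpa using h

theorem sum_range_pairs (f : ℕ → F) (k : ℕ) :
    ∑ i ∈ Finset.range (2 * k + 1), f i = f k + ∑ i ∈ Finset.range k, (f i + f (2 * k - i)) := by
  rw [show 2 * k + 1 = k + (k + 1) by ring, Finset.sum_range_add, Finset.sum_range_succ', add_zero,
    Finset.sum_add_distrib, ← Finset.sum_range_reflect (fun i => f (2 * k - i)) k]
  rw [show ∑ i ∈ Finset.range k, f (k + (i + 1)) = ∑ j ∈ Finset.range k, f (2 * k - (k - 1 - j)) from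
    Finset.sum_congr rfl fun j hj => by
      have := Finset.mem_range.1 hj
      congr 1; omega]
  ring

theorem sign_even {k i : ℕ} (h : i ≤ 2 * k) : (-1 : F) ^ (2 * k - i) = (-1) ^ i :=
  neg_one_pow_congr (by rw [Nat.even_iff, Nat.even_iff]; omega)

theorem sign_odd {k i : ℕ} (h : i < 2 * k) : (-1 : F) ^ (2 * k - 1 - i) = -((-1) ^ i) := by
  rw [neg_one_pow_congr (R := F) (show Even (2 * k - 1 - i) ↔ Even (i + 1) by rw [Nat.even_iff, Nat.even_iff]; omega),
    pow_succ, mul_neg_one]

open Classical in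
theorem exists_regular (h2 : (2 : F) ≠ 0) {δ : F} (hδ : δ ≠ 0) (k : ℕ) :
    ∃ (T : IsoGrp (oddQ δ k)) (v : Unit ⊕ (Fin k ⊕ Fin k) → F),
      (∀ m, ((ap T - 1) ^ m) v = 0 → 2 * k + 1 ≤ m) ∧ (ap T - 1) ^ (2 * k + 1) = 0 := by
  set n := 2 * k + 1 with hn
  let ext : (Fin n → F) → ℕ → F := fun v i => if h : i < n then v ⟨i, h⟩ else 0
  have hext_add : ∀ u v i, ext (u + v) i = ext u i + ext v i := fun u v i => by
    simp only [ext]; split <;> simp
  have hext_smul : ∀ (c : F) v i, ext (c • v) i = c * ext v i := fun c v i => by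
    simp only [ext]; split <;> simp
  let N : Module.End F (Fin n → F) :=
    { toFun := fun v i => if i.1 = 0 then 0 else ext v (i.1 - 1)
      map_add' := fun u v => funext fun i => by
        simp only [Pi.add_apply]; split <;> simp [hext_add]
      map_smul' := fun c v => funext fun i => by
        simp only [Pi.smul_apply, smul_eq_mul, RingHom.id_apply]; split <;> simp [hext_smul] }
  have hextN : ∀ v i, i < n → ext (N v) i = if i = 0 then 0 else ext v (i - 1) := fun v i hi => by
    show (if h : i < n then (N v) ⟨i, h⟩ else 0) = _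
    rw [dif_pos hi]
    rfl
  have hNpow : ∀ m v i, i < n → ext ((N ^ m) v) i = if m ≤ i then ext v (i - m) else 0 := by
    intro m
    induction m with
    | zero => intro v i _; simp
    | succ m ih =>
      intro v i hi
      rw [pow_succ', Module.End.mul_apply, hextN _ _ hi]
      rcases Nat.eq_zero_or_pos i with rfl | hi0
      · simp
      · rw [if_neg (by omega), ih v (i - 1) (by omega), show i - 1 - m = i - (m + 1) by omega]
        exact if_congr (by omega) rfl rfl
  have hNn : N ^ n = 0 := LinearMap.ext fun v => funext fun i => by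
    have := hNpow n v i.1 i.2
    rw [if_neg (by omega)] at this
    simpa [ext] using this
  let Bf : (Fin n → F) → (Fin n → F) → F := fun y z =>
    ∑ i ∈ Finset.range n, (-1) ^ i * ext y i * ext z (2 * k - i)
  have hBsymm : ∀ y z, Bf y z = Bf z y := fun y z => by
    simp only [Bf]
    rw [← Finset.sum_range_reflect]
    refine Finset.sum_congr rfl fun i hi => ?_
    have hi' := Finset.mem_range.1 hi
    rw [show 2 * k - (n - 1 - i) = i by omega, show n - 1 - i = 2 * k - i by omega]
    have : (-1 : F) ^ (2 * k - i) = (-1) ^ i := sign_even (by omega)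
    rw [this]; ring
  have hBN : ∀ y, Bf y (N y) = 0 := fun y => by
    have h0 : Bf y (N y) = ∑ i ∈ Finset.range (2 * k), (-1) ^ i * ext y i * ext y (2 * k - 1 - i) := by
      simp only [Bf]
      show ∑ i ∈ Finset.range (2 * k + 1), (-1 : F) ^ i * ext y i * ext (N y) (2 * k - i) = _
      rw [Finset.sum_range_succ, Nat.sub_self, hextN y 0 (by omega), if_pos rfl, mul_zero, add_zero]
      refine Finset.sum_congr rfl fun i hi => ?_
      have hi' := Finset.mem_range.1 hi
      rw [hextN y _ (by omega), if_neg (by omega), show 2 * k - i - 1 = 2 * k - 1 - i by omega]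
    have h1 : Bf y (N y) = -Bf y (N y) := by
      rw [h0]
      conv_lhs => rw [← Finset.sum_range_reflect]
      rw [← Finset.sum_neg_distrib]
      refine Finset.sum_congr rfl fun i hi => ?_
      have hi' := Finset.mem_range.1 hi
      rw [show 2 * k - 1 - (2 * k - 1 - i) = i by omega]
      have : (-1 : F) ^ (2 * k - 1 - i) = -((-1) ^ i) := sign_odd hi'
      rw [this]; ring
    rw [eq_neg_iff_add_eq_zero, ← two_mul] at h1
    exact (mul_eq_zero.1 h1).resolve_left h2
  have hBadd : ∀ y z w, Bf (y + z) w = Bf y w + Bf z w := fun y z w => by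
    simp only [Bf, hext_add]; rw [← Finset.sum_add_distrib]; exact Finset.sum_congr rfl fun i _ => by ring
  have hBsub : ∀ y z w, Bf (y - z) w = Bf y w - Bf z w := fun y z w => by
    have := hBadd (y - z) z w
    rw [sub_add_cancel] at this
    linear_combination -this
  set G : Module.End F (Fin n → F) := ∑ i ∈ Finset.range n, N ^ i with hG
  have hG1 : (1 - N) * G = 1 := by rw [hG, mul_neg_geom_sum, hNn, sub_zero]
  have hG2 : G * (1 - N) = 1 := by rw [hG, geom_sum_mul_neg, hNn, sub_zero]
  set T : Module.End F (Fin n → F) := (1 + N) * G with hT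
  have hTB : ∀ x, Bf (T x) (T x) = Bf x x := by
    intro x
    obtain ⟨y, rfl⟩ : ∃ y, (1 - N) y = x := ⟨G x, by rw [← Module.End.mul_apply, hG1]; rfl⟩
    have e : T ((1 - N) y) = y + N y := by
      rw [hT, ← Module.End.mul_apply, mul_assoc, hG2, mul_one]; rfl
    rw [e, show (1 - N) y = y - N y from rfl]
    have h1 : Bf (y + N y) (y + N y) = Bf y y + Bf (N y) (N y) + 2 * Bf y (N y) := by
      rw [hBadd, hBsymm y (y + N y), hBsymm (N y) (y + N y), hBadd, hBadd, hBsymm (N y) y]; ring
    have h1' : Bf (y - N y) (y - N y) = Bf y y + Bf (N y) (N y) - 2 * Bf y (N y) := by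
      rw [hBsub, hBsymm y (y - N y), hBsymm (N y) (y - N y), hBsub, hBsub, hBsymm (N y) y]; ring
    rw [h1, h1', hBN]; ring
  -- the model is the odd form
  let ψ : (Fin n → F) →ₗ[F] (Unit ⊕ (Fin k ⊕ Fin k) → F) :=
    { toFun := fun v => Sum.elim (fun _ => ext v k)
        (Sum.elim (fun i => ext v i.1) fun i => 2 * δ * (-1) ^ (i.1 + k) * ext v (2 * k - i.1))
      map_add' := fun u v => funext fun i => by rcases i with i | i | i <;> simp [hext_add, mul_add]
      map_smul' := fun c v => funext fun i => by rcases i with i | i | i <;> simp [hext_smul]; ring }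
  have hψ : Function.Injective ψ := by
    rw [injective_iff_map_eq_zero]
    intro v hv
    funext i
    have hi := i.2
    rcases lt_trichotomy i.1 k with h | h | h
    · have := congrFun hv (.inr (.inl ⟨i.1, h⟩))
      simpa [ψ, ext] using this
    · have := congrFun hv (.inl ())
      simpa [ψ, ext, ← h] using this
    · have := congrFun hv (.inr (.inr ⟨2 * k - i.1, by omega⟩))
      simp [ψ, show 2 * k - (2 * k - i.1) = i.1 by omega, h2, hδ] at this
      simpa [ext] using this
  let e : (Fin n → F) ≃ₗ[F] (Unit ⊕ (Fin k ⊕ Fin k) → F) :=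
    LinearEquiv.ofInjectiveOfFinrankEq ψ hψ (by simp [n]; ring)
  have hQ : ∀ v, oddQ δ k (e v) = δ * (-1) ^ k * Bf v v := by
    intro v
    rw [oddQ_apply]
    simp only [Bf]
    show _ = δ * (-1) ^ k * ∑ i ∈ Finset.range (2 * k + 1), (-1 : F) ^ i * ext v i * ext v (2 * k - i)
    rw [sum_range_pairs, mul_add, Finset.mul_sum,
      ← Fin.sum_univ_eq_sum_range (fun i => δ * (-1) ^ k *
        ((-1) ^ i * ext v i * ext v (2 * k - i) + (-1) ^ (2 * k - i) * ext v (2 * k - i) * ext v (2 * k - (2 * k - i))))]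
    have hee : e v = ψ v := rfl
    rw [hee]
    congr 1
    · show δ * (ext v k * ext v k) = _
      rw [show 2 * k - k = k by omega]
      have : ((-1 : F) ^ k * (-1) ^ k) = 1 := by rw [← mul_pow]; simp
      linear_combination -(δ * ext v k * ext v k) * this
    · refine Finset.sum_congr rfl fun i _ => ?_
      have hi := i.2
      show ext v i.1 * (2 * δ * (-1) ^ (i.1 + k) * ext v (2 * k - i.1)) = _
      rw [show 2 * k - (2 * k - i.1) = i.1 by omega]
      have : (-1 : F) ^ (2 * k - i.1) = (-1) ^ i.1 := sign_even (by omega)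
      rw [this, pow_add]; ring
  let T' : Module.End F (Unit ⊕ (Fin k ⊕ Fin k) → F) := e.toLinearMap ∘ₗ T ∘ₗ e.symm.toLinearMap
  have hT'iso : ∀ x, oddQ δ k (T' x) = oddQ δ k x := fun x => by
    show oddQ δ k (e (T (e.symm x))) = _
    rw [hQ, hTB, ← hQ, e.apply_symm_apply]
  have hnd := oddQ_nd h2 hδ k
  have hinj : Function.Injective T' := by
    rw [injective_iff_map_eq_zero]
    intro x hx
    refine (Forms.nondegenerate_polarBilin_iff _).1 hnd x fun y => ?_
    simp only [QuadraticMap.polar]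
    rw [← hT'iso (x + y), ← hT'iso x, ← hT'iso y, map_add, hx, zero_add, QuadraticMap.map_zero]
    ring
  obtain ⟨g, hg⟩ := exists_isoGrp (Q := oddQ δ k)
    (LinearEquiv.ofInjectiveEndo T' hinj) hT'iso
  refine ⟨g, e (fun i => if i.1 = 0 then 1 else 0), ?_, ?_⟩
  all_goals
    have hap : ap g - 1 = e.toLinearMap ∘ₗ (T - 1) ∘ₗ e.symm.toLinearMap := by
      rw [hg]
      refine LinearMap.ext fun x => ?_
      show T' x - x = e (T (e.symm x) - e.symm x)
      rw [map_sub, e.apply_symm_apply]
      rfl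
    have hpow : ∀ (m : ℕ) x, ((ap g - 1) ^ m) (e x) = e (((T - 1) ^ m) x) := by
      intro m
      induction m with
      | zero => intro x; rfl
      | succ m ih =>
        intro x
        rw [pow_succ, Module.End.mul_apply, hap]
        show ((e.toLinearMap ∘ₗ (T - 1) ∘ₗ e.symm.toLinearMap) ^ m) (e ((T - 1) (e.symm (e x)))) = _
        rw [← hap, ih, e.symm_apply_apply, pow_succ, Module.End.mul_apply]
    have hT1 : T - 1 = (2 : F) • (N * G) := by
      have : (1 : Module.End F (Fin n → F)) = (1 - N) * G := hG1.symm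
      conv_lhs => rw [this, hT]
      rw [← sub_mul, show (1 : Module.End F (Fin n → F)) + N - (1 - N) = N + N by abel, add_mul, two_smul]
    have hcomm : Commute N G := Commute.sum_right _ _ _ fun i _ => (Commute.refl N).pow_right i
  · intro m hm
    rw [hpow, LinearEquiv.map_eq_zero_iff, hT1, smul_pow, hcomm.mul_pow, LinearMap.smul_apply,
      smul_eq_zero_iff_right (pow_ne_zero _ h2), (hcomm.pow_pow m m).eq, Module.End.mul_apply] at hm
    have hGinj : Function.Injective (G ^ m) := by
      rw [Module.End.coe_pow]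
      exact Function.Injective.iterate (Function.LeftInverse.injective (g := fun y => (1 - N) y) fun x => by
        show (1 - N) (G x) = x
        rw [← Module.End.mul_apply, hG1]; rfl) m
    have h0 := hGinj (hm.trans (map_zero _).symm)
    by_contra hlt
    have := hNpow m (fun i => if i.1 = 0 then 1 else 0) m (by omega)
    rw [h0, if_pos le_rfl, Nat.sub_self] at this
    simp [ext, n] at this
  · refine LinearMap.ext fun x => ?_
    rw [← e.apply_symm_apply x, hpow, hT1, smul_pow, hcomm.mul_pow, hNn, zero_mul, smul_zero]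
    simp

variable [Fintype F] {p : ℕ} [Fact p.Prime] [CharP F p]

open Polynomial in
theorem geom_sum_eq_sub_pow (i : ℕ) :
    ∑ j ∈ Finset.range (p ^ i), (Polynomial.X : F[X]) ^ j = (Polynomial.X - 1) ^ (p ^ i - 1) := by
  refine mul_right_cancel₀ (show (Polynomial.X - 1 : F[X]) ≠ 0 by
    rw [← Polynomial.C_1]; exact Polynomial.X_sub_C_ne_zero 1) ?_
  rw [geom_sum_mul, ← pow_succ, Nat.sub_add_cancel (Nat.one_le_pow _ _ (Fact.out : p.Prime).pos),
    sub_pow_char_pow, one_pow]

open Polynomial in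
theorem piece_regular (h2 : (2 : F) ≠ 0) {δ : F} (hδ : δ ≠ 0) (k : ℕ) :
    Piece (oddQ δ k) (p ^ Nat.clog p (2 * k + 1)) 1 false ∧
      Piece (oddQ δ k) (p ^ Nat.clog p (2 * k + 2)) 1 true := by
  obtain ⟨T, v, hv, hT⟩ := exists_regular h2 hδ k
  have hp := (Fact.out : p.Prime)
  have hG := Good.of_two_ne_zero (oddQ_nd h2 hδ k) h2
  have hpodd : Odd p := hp.odd_of_ne_two fun h => h2 (by
    subst h; exact_mod_cast CharP.cast_eq_zero F 2)
  have hap : ∀ (i : ℕ) y, ap (T ^ i) y = (ap T ^ i) y := by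
    intro i
    induction i with
    | zero => simp
    | succ i ih => intro y; rw [pow_succ, pow_succ, ap_mul, ih]; rfl
  have hsum : ∀ i, ∑ j ∈ Finset.range (p ^ i), ap T ^ j = (ap T - 1) ^ (p ^ i - 1) := fun i => by
    have := congrArg (aeval (ap T)) (geom_sum_eq_sub_pow (F := F) (p := p) i)
    simpa using this
  have hlin : ∀ i y, (lin T ^ i) y = (ap T ^ i) y := fun i y => by rw [← lin_pow, lin_apply, hap]
  have haff : ∀ i w, aff (lin T) w ^ (p ^ i) = aff (lin T ^ (p ^ i)) (((ap T - 1) ^ (p ^ i - 1)) w) := fun i w => by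
    rw [aff_pow, ← hsum, LinearMap.sum_apply]
    simp only [hlin]
  have hone : ∀ i, T ^ (p ^ i) = 1 ↔ (ap T - 1) ^ (p ^ i) = 0 := fun i => by
    have e : (ap T - 1) ^ (p ^ i) = ap T ^ (p ^ i) - 1 := by
      have := congrArg (aeval (ap T)) (sub_pow_char_pow (p := p) (n := i) (Polynomial.X : F[X]) 1)
      simpa using this
    rw [e, sub_eq_zero]
    refine ⟨fun h => LinearMap.ext fun y => ?_, fun h => ext_ap fun y => ?_⟩
    · rw [← hap, h, ap_one]; rfl
    · rw [hap, h, ap_one]; rfl
  set E := Nat.clog p (2 * k + 2) with hE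
  have hpE : 2 * k + 2 ≤ p ^ E := Nat.le_pow_clog hp.one_lt _
  have hTE : T ^ (p ^ E) = 1 := (hone E).2 (pow_eq_zero_of_le (by omega) hT)
  have hodd : Odd (orderOf T) := (hpodd.pow).of_dvd_nat (orderOf_dvd_of_pow_eq_one hTE)
  have hlinT : ∀ i, T ^ i = 1 → lin T ^ i = 1 := fun i h => by rw [← lin_pow, h, lin_one]
  refine ⟨piece_of_odd hG T hodd 0 false (fun _ => rfl) ?_, piece_of_odd hG T hodd v true (by simp) ?_⟩
  · rw [orderOf_aff_zero, orderOf_lin]
    obtain ⟨i, -, hi⟩ := (Nat.dvd_prime_pow hp).1 (orderOf_dvd_of_pow_eq_one hTE)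
    rw [hi]
    refine pow_dvd_pow p (Nat.clog_le_of_le_pow (hv _ ?_))
    rw [(hone i).1 (hi ▸ pow_orderOf_eq_one T), LinearMap.zero_apply]
  · have hfin : aff (lin T) v ^ (p ^ E) = 1 := by
      rw [haff, hlinT _ hTE, pow_eq_zero_of_le (show 2 * k + 1 ≤ p ^ E - 1 by omega) hT, LinearMap.zero_apply, aff_one]
    obtain ⟨i, -, hi⟩ := (Nat.dvd_prime_pow hp).1 (orderOf_dvd_of_pow_eq_one hfin)
    rw [hi]
    have h1 := pow_orderOf_eq_one (aff (lin T) v)
    rw [hi, haff, ← aff_one (F := F)] at h1
    have hle := hv _ (aff_inj h1).2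
    exact pow_dvd_pow p (Nat.clog_le_of_le_pow (by omega))

end Cfsg.Agent.SpecOmNine
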