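/-
Isometries between orthogonal sums of the standard forms, odd characteristic.
* `plus_minus`, `plus_odd`, `minus_odd`, `minus_minus` : gluing of pieces
* `piece_even` : translations combined with regular unipotent isometries, even dimension
-/
import Cfsg.Agent.Lib.SpecOmNine.Tori
import Cfsg.Agent.Lib.SpecOmNine.Unip

set_option autoImplicit false
set_option linter.unusedSectionVars false
set_option linter.unusedSimpArgs false

namespace Cfsg.Agent.SpecOmNine

open Module Cfsg.Agent.Orth Cfsg.Agent.Forms Cfsg.Agent.SpecSpEight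

variable {F : Type*} [Field F]

theorem aniso_of_nonsquare {ν : F} (hν : ¬ IsSquare ν) :
    ∀ x y : F, x ^ 2 + 0 * x * y + -ν * y ^ 2 = 0 → x = 0 ∧ y = 0 := by
  intro x y h
  by_cases hy : y = 0
  · subst hy; simpa using h
  · exact absurd ⟨x / y, by field_simp; linear_combination -h⟩ hν

theorem nonsquare_ne_zero {ν : F} (hν : ¬ IsSquare ν) : ν ≠ 0 := fun h => hν (h ▸ IsSquare.zero)

variable [Fintype F]

theorem minus_nd {a b : F} (hab : ∀ x y : F, x ^ 2 + a * x * y + b * y ^ 2 = 0 → x = 0 ∧ y = 0) (m : ℕ) :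
    (qfMinus m F a b).polarBilin.Nondegenerate :=
  qfMinus_nondegenerate (disc_ne_zero_of_anisotropic hab) m

theorem plus_minus (h2 : (2 : F) ≠ 0) {a b : F}
    (hab : ∀ x y : F, x ^ 2 + a * x * y + b * y ^ 2 = 0 → x = 0 ∧ y = 0) {m l N M : ℕ} {σ τ : ℤ} {t t' : Bool}
    (h : Piece (qfPlus m F) N σ t) (h' : Piece (qfMinus l F a b) M τ t') :
    Piece (qfMinus (m + l) F a b) (Nat.lcm N M) (σ * τ) (t || t') :=
  (h.prod h2 (qfPlus_nondegenerate m) (minus_nd hab l) h').congr
    ((glueEquiv F m l).trans (LinearEquiv.sumArrowLequivProdArrow _ _ F F).symm)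
    fun v => by rw [← glueEquiv_form v]; rfl

/-- Splitting off pairs from the odd form. -/
def oddSplit (F : Type*) [Field F] (m k : ℕ) : (Unit ⊕ (Fin (m + k) ⊕ Fin (m + k)) → F) →ₗ[F]
    ((Fin m ⊕ Fin m) ⊕ (Unit ⊕ (Fin k ⊕ Fin k)) → F) :=
  LinearMap.funLeft F F (Sum.elim (Sum.elim (fun i => .inr (.inl (Fin.castAdd k i))) fun i => .inr (.inr (Fin.castAdd k i)))
    (Sum.elim (fun _ => .inl ()) (Sum.elim (fun i => .inr (.inl (Fin.natAdd m i))) fun i => .inr (.inr (Fin.natAdd m i)))))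

theorem oddSplit_injective (m k : ℕ) : Function.Injective (oddSplit F m k) := by
  refine LinearMap.funLeft_injective_of_surjective _ _ _ fun x => ?_
  rcases x with ⟨⟩ | x | x
  · exact ⟨.inr (.inl ()), rfl⟩
  · refine Fin.addCases (fun i => ?_) (fun i => ?_) x
    · exact ⟨.inl (.inl i), rfl⟩
    · exact ⟨.inr (.inr (.inl i)), rfl⟩
  · refine Fin.addCases (fun i => ?_) (fun i => ?_) x
    · exact ⟨.inl (.inr i), rfl⟩
    · exact ⟨.inr (.inr (.inr i)), rfl⟩

theorem plus_odd (h2 : (2 : F) ≠ 0) {δ : F} (hδ : δ ≠ 0) {m k N M : ℕ} {σ τ : ℤ} {t t' : Bool}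
    (h : Piece (qfPlus m F) N σ t) (h' : Piece (oddQ δ k) M τ t') :
    Piece (oddQ δ (m + k)) (Nat.lcm N M) (σ * τ) (t || t') := by
  refine (h.prod h2 (qfPlus_nondegenerate m) (oddQ_nd h2 hδ k) h').congr
    (LinearEquiv.ofInjectiveOfFinrankEq (oddSplit F m k) (oddSplit_injective m k) (by simp; ring)) fun v => ?_
  show sumForm _ _ (oddSplit F m k v) = _
  simp [sumForm_apply, oddQ_apply, qfPlus_apply, Cfsg.quadFormPlus, oddSplit, LinearMap.funLeft_apply, Fin.sum_univ_add]
  ring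

theorem exists_similitude {ν : F} (hν : ¬ IsSquare ν) {c : F} :
    ∃ s t : F, s ^ 2 - ν * t ^ 2 = c := by
  obtain ⟨⟨s, t⟩, h⟩ := qfBin_surjective (disc_ne_zero_of_anisotropic (aniso_of_nonsquare hν)) c
  exact ⟨s, t, by simp at h; linear_combination h⟩

/-- Merging a form of minus type with an odd form. -/
def minusOddMap (l k : ℕ) (ν δ s t : F) : (Unit ⊕ (Fin (l + (k + 1)) ⊕ Fin (l + (k + 1))) → F) →ₗ[F]
    (((Fin l ⊕ Fin l) ⊕ Fin 2) ⊕ (Unit ⊕ (Fin k ⊕ Fin k)) → F) where
  toFun v :=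
    let X := v (.inl ())
    let P := v (.inr (.inl (Fin.natAdd l 0)))
    let R := v (.inr (.inr (Fin.natAdd l 0)))
    let y := (R - P / δ) / 2
    Sum.elim (Sum.elim (Sum.elim (fun i => v (.inr (.inl (Fin.castAdd (k + 1) i))))
          fun i => v (.inr (.inr (Fin.castAdd (k + 1) i)))) ![s * X + ν * t * y, t * X + s * y])
      (Sum.elim (fun _ => (P / δ + R) / 2) (Sum.elim (fun i => v (.inr (.inl (Fin.natAdd l i.succ))))
        fun i => v (.inr (.inr (Fin.natAdd l i.succ)))))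
  map_add' u v := by
    funext i
    rcases i with ((i | i) | i) | i | i | i
    iterate 2 (· simp)
    · fin_cases i <;> simp <;> ring
    · simp; ring
    iterate 2 (· simp)
  map_smul' c v := by
    funext i
    rcases i with ((i | i) | i) | i | i | i
    iterate 2 (· simp)
    · fin_cases i <;> simp <;> ring
    · simp; ring
    iterate 2 (· simp)

theorem minusOddMap_injective (h2 : (2 : F) ≠ 0) (l k : ℕ) {ν δ s t : F} (hδ : δ ≠ 0)
    (hst : s ^ 2 - ν * t ^ 2 = δ / ν) (hν : ν ≠ 0) : Function.Injective (minusOddMap l k ν δ s t) := by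
  rw [injective_iff_map_eq_zero]
  intro v hv
  have e1 := congrFun hv (.inl (.inr 0))
  have e2 := congrFun hv (.inl (.inr 1))
  have e3 := congrFun hv (.inr (.inl ()))
  simp [minusOddMap] at e1 e2 e3
  set X := v (.inl ())
  set P := v (.inr (.inl (Fin.natAdd l 0)))
  set R := v (.inr (.inr (Fin.natAdd l 0)))
  set y := (R - P / δ) / 2 with hy
  have hc : δ / ν ≠ 0 := div_ne_zero hδ hν
  have hX : X = 0 := (mul_eq_zero.1 (show (δ / ν) * X = 0 by rw [← hst]; linear_combination s * e1 - ν * t * e2)).resolve_left hc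
  have hy0 : y = 0 := (mul_eq_zero.1 (show (δ / ν) * y = 0 by rw [← hst]; linear_combination s * e2 - t * e1)).resolve_left hc
  have hw : P / δ + R = 0 := by simpa [h2] using e3
  have hy' : R - P / δ = 0 := by
    rw [hy] at hy0; simpa [h2] using hy0
  have hR : R = 0 := (mul_eq_zero.1 (show 2 * R = 0 by linear_combination hw + hy')).resolve_left h2
  have hP : P = 0 := by
    have := hw
    rw [hR, add_zero, div_eq_zero_iff] at this
    exact this.resolve_right hδ
  funext i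
  rcases i with ⟨⟨⟩⟩ | i | i
  · exact hX
  · refine Fin.addCases (fun i => ?_) (fun i => ?_) i
    · simpa [minusOddMap] using congrFun hv (.inl (.inl (.inl i)))
    · refine Fin.cases ?_ (fun i => ?_) i
      · exact hP
      · simpa [minusOddMap] using congrFun hv (.inr (.inr (.inl i)))
  · refine Fin.addCases (fun i => ?_) (fun i => ?_) i
    · simpa [minusOddMap] using congrFun hv (.inl (.inl (.inr i)))
    · refine Fin.cases ?_ (fun i => ?_) i
      · exact hR
      · simpa [minusOddMap] using congrFun hv (.inr (.inr (.inr i)))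

theorem minus_odd (h2 : (2 : F) ≠ 0) {ν : F} (hν : ¬ IsSquare ν) {δ : F} (hδ : δ ≠ 0) {l k N M : ℕ} {σ τ : ℤ}
    {t t' : Bool} (h : Piece (qfMinus l F 0 (-ν)) N σ t) (h' : Piece (oddQ δ k) M τ t') :
    Piece (oddQ (δ / ν) (l + (k + 1))) (Nat.lcm N M) (σ * τ) (t || t') := by
  have hν0 := nonsquare_ne_zero hν
  obtain ⟨s, t₀, hst⟩ := exists_similitude hν (c := δ / ν)
  refine (h.prod h2 (minus_nd (aniso_of_nonsquare hν) l) (oddQ_nd h2 hδ k) h').congr
    (LinearEquiv.ofInjectiveOfFinrankEq (minusOddMap l k ν δ s t₀) (minusOddMap_injective h2 l k hδ hst hν0)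
      (by simp; ring)) fun v => ?_
  show sumForm _ _ (minusOddMap l k ν δ s t₀ v) = _
  simp only [sumForm_apply, oddQ_apply, qfMinus_apply, Cfsg.quadFormMinus, minusOddMap, LinearMap.coe_mk, AddHom.coe_mk,
    Sum.elim_inl, Sum.elim_inr, Matrix.cons_val_zero, Matrix.cons_val_one, Fin.sum_univ_add, Fin.sum_univ_succ]
  set X := v (.inl ())
  set P := v (.inr (.inl (Fin.natAdd l 0)))
  set R := v (.inr (.inr (Fin.natAdd l 0)))
  have e : (δ / ν) * ν = δ := div_mul_cancel₀ _ hν0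
  have e1 : (s * X + ν * t₀ * ((R - P / δ) / 2)) ^ 2 + 0 * (s * X + ν * t₀ * ((R - P / δ) / 2)) * (t₀ * X + s * ((R - P / δ) / 2))
      + -ν * (t₀ * X + s * ((R - P / δ) / 2)) ^ 2 = δ / ν * (X * X) - δ * ((R - P / δ) / 2) ^ 2 := by
    linear_combination (X ^ 2 - ν * ((R - P / δ) / 2) ^ 2) * hst - ((R - P / δ) / 2) ^ 2 * e
  have e2 : δ * ((P / δ + R) / 2 * ((P / δ + R) / 2)) = δ * ((R - P / δ) / 2) ^ 2 + P * R := by
    field_simp; ring
  linear_combination e1 + e2

/-- Two copies of the same binary form. -/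
def minusMinusMap (ν s t : F) : (Fin 2 ⊕ Fin 2 → F) →ₗ[F]
    (((Fin 0 ⊕ Fin 0) ⊕ Fin 2) ⊕ ((Fin 0 ⊕ Fin 0) ⊕ Fin 2) → F) where
  toFun v :=
    let x := (v (.inl 0) + v (.inr 0)) / 2
    let x' := (v (.inr 0) - v (.inl 0)) / 2
    let y := (v (.inr 1) - v (.inl 1) / ν) / 2
    let y' := (v (.inr 1) + v (.inl 1) / ν) / 2
    Sum.elim (Sum.elim 0 ![x, y]) (Sum.elim 0 ![s * x' + ν * t * y', t * x' + s * y'])
  map_add' u v := by
    funext i
    rcases i with ((i | i) | i) | (i | i) | i <;> first | exact i.elim0 | (fin_cases i <;> simp <;> ring)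
  map_smul' c v := by
    funext i
    rcases i with ((i | i) | i) | (i | i) | i <;> first | exact i.elim0 | (fin_cases i <;> simp <;> ring)

theorem minus_minus (h2 : (2 : F) ≠ 0) {ν : F} (hν : ¬ IsSquare ν) {N M : ℕ} {σ τ : ℤ} {t t' : Bool}
    (h : Piece (qfMinus 0 F 0 (-ν)) N σ t) (h' : Piece (qfMinus 0 F 0 (-ν)) M τ t') :
    Piece (qfPlus 2 F) (Nat.lcm N M) (σ * τ) (t || t') := by
  have hν0 := nonsquare_ne_zero hν
  obtain ⟨s, t₀, hst⟩ := exists_similitude hν (c := -1)
  have hinj : Function.Injective (minusMinusMap ν s t₀) := by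
    rw [injective_iff_map_eq_zero]
    intro v hv
    have e1 := congrFun hv (.inl (.inr 0))
    have e2 := congrFun hv (.inl (.inr 1))
    have e3 := congrFun hv (.inr (.inr 0))
    have e4 := congrFun hv (.inr (.inr 1))
    simp [minusMinusMap, h2] at e1 e2 e3 e4
    set a0 := v (.inl 0)
    set b0 := v (.inr 0)
    set a1 := v (.inl 1)
    set b1 := v (.inr 1)
    have hx : b0 - a0 = 0 := by
      have h := show (s ^ 2 - ν * t₀ ^ 2) * ((b0 - a0) / 2) = 0 by linear_combination s * e3 - ν * t₀ * e4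
      rw [hst] at h; simpa [h2] using h
    have hy : b1 + a1 / ν = 0 := by
      have h := show (s ^ 2 - ν * t₀ ^ 2) * ((b1 + a1 / ν) / 2) = 0 by linear_combination s * e4 - t₀ * e3
      rw [hst] at h; simpa [h2] using h
    have hb0 : b0 = 0 := (mul_eq_zero.1 (show 2 * b0 = 0 by linear_combination hx + e1)).resolve_left h2
    have hb1 : b1 = 0 := (mul_eq_zero.1 (show 2 * b1 = 0 by linear_combination hy + e2)).resolve_left h2
    have ha0 : a0 = 0 := by linear_combination e1 - hb0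
    have ha1 : a1 = 0 := by
      rw [hb1, zero_add, div_eq_zero_iff] at hy
      exact hy.resolve_right hν0
    funext i
    rcases i with i | i <;> fin_cases i
    · exact ha0
    · exact ha1
    · exact hb0
    · exact hb1
  refine (h.prod h2 (minus_nd (aniso_of_nonsquare hν) 0) (minus_nd (aniso_of_nonsquare hν) 0) h').congr
    (LinearEquiv.ofInjectiveOfFinrankEq (minusMinusMap ν s t₀) hinj (by simp)) fun v => ?_
  show sumForm _ _ (minusMinusMap ν s t₀ v) = _
  simp only [sumForm_apply, qfMinus_apply, qfPlus_apply, Cfsg.quadFormMinus, Cfsg.quadFormPlus, minusMinusMap,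
    LinearMap.coe_mk, AddHom.coe_mk, Sum.elim_inl, Sum.elim_inr, Matrix.cons_val_zero, Matrix.cons_val_one,
    Fin.sum_univ_two, Fin.sum_univ_zero, zero_add]
  generalize v (.inl 0) = a0
  generalize v (.inr 0) = b0
  generalize v (.inl 1) = a1
  generalize v (.inr 1) = b1
  have e : (s * ((b0 - a0) / 2) + ν * t₀ * ((b1 + a1 / ν) / 2)) ^ 2
      + 0 * (s * ((b0 - a0) / 2) + ν * t₀ * ((b1 + a1 / ν) / 2)) * (t₀ * ((b0 - a0) / 2) + s * ((b1 + a1 / ν) / 2))
      + -ν * (t₀ * ((b0 - a0) / 2) + s * ((b1 + a1 / ν) / 2)) ^ 2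
      = -(((b0 - a0) / 2) ^ 2 - ν * ((b1 + a1 / ν) / 2) ^ 2) := by
    linear_combination (((b0 - a0) / 2) ^ 2 - ν * ((b1 + a1 / ν) / 2) ^ 2) * hst
  rw [e]
  field_simp
  ring

/-- The odd form and one more coordinate, plus type. -/
def oddLinePlus (k : ℕ) (δ : F) : (Fin (k + 1) ⊕ Fin (k + 1) → F) →ₗ[F]
    ((Unit ⊕ (Fin k ⊕ Fin k)) ⊕ (Unit ⊕ (Fin 0 ⊕ Fin 0)) → F) where
  toFun v := Sum.elim
    (Sum.elim (fun _ => (v (.inl 0) / δ + v (.inr 0)) / 2) (Sum.elim (fun i => v (.inl i.succ)) fun i => v (.inr i.succ)))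
    (Sum.elim (fun _ => (v (.inr 0) - v (.inl 0) / δ) / 2) 0)
  map_add' u v := by
    funext i
    rcases i with (i | i | i) | (i | i | i) <;> first | exact i.elim0 | (simp; try ring)
  map_smul' c v := by
    funext i
    rcases i with (i | i | i) | (i | i | i) <;> first | exact i.elim0 | (simp; try ring)

/-- The odd form and one more coordinate, minus type. -/
def oddLineMinus (F : Type*) [Field F] (k : ℕ) : ((Fin k ⊕ Fin k) ⊕ Fin 2 → F) →ₗ[F]
    ((Unit ⊕ (Fin k ⊕ Fin k)) ⊕ (Unit ⊕ (Fin 0 ⊕ Fin 0)) → F) :=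
  LinearMap.funLeft F F (Sum.elim (Sum.elim (fun _ => .inr 0) (Sum.elim (fun i => .inl (.inl i)) fun i => .inl (.inr i)))
    (Sum.elim (fun _ => .inr 1) (Sum.elim Fin.elim0 Fin.elim0)))

variable {p : ℕ} [Fact p.Prime] [CharP F p]

theorem piece_one (h2 : (2 : F) ≠ 0) {ι : Type} [Fintype ι] [DecidableEq ι] {Q : QuadraticForm F (ι → F)}
    (hQ : Q.polarBilin.Nondegenerate) : Piece Q 1 1 false :=
  piece_of_odd (Good.of_two_ne_zero hQ h2) 1 (by simp) 0 false (fun _ => rfl) (one_dvd _)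

theorem piece_even_plus (h2 : (2 : F) ≠ 0) (k : ℕ) :
    Piece (qfPlus (k + 1) F) (p ^ Nat.clog p (2 * k + 2)) 1 true := by
  have h := (piece_regular (p := p) h2 (one_ne_zero (α := F)) k).2.prod h2 (oddQ_nd h2 one_ne_zero k)
    (oddQ_nd h2 (neg_ne_zero.2 one_ne_zero) 0) (piece_one h2 (oddQ_nd h2 (δ := (-1 : F)) (neg_ne_zero.2 one_ne_zero) 0))
  rw [Nat.lcm_one_right, mul_one] at h
  have hinj : Function.Injective (oddLinePlus (F := F) k 1) := by
    rw [injective_iff_map_eq_zero]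
    intro v hv
    have e1 := congrFun hv (.inl (.inl ()))
    have e2 := congrFun hv (.inr (.inl ()))
    simp [oddLinePlus, h2] at e1 e2
    have hb : v (.inr 0) = 0 := (mul_eq_zero.1 (show 2 * v (.inr 0) = 0 by linear_combination e1 + e2)).resolve_left h2
    funext i
    rcases i with i | i <;> refine Fin.cases ?_ (fun j => ?_) i
    · show v (.inl 0) = 0
      linear_combination e1 - hb
    · simpa [oddLinePlus] using congrFun hv (.inl (.inr (.inl j)))
    · exact hb
    · simpa [oddLinePlus] using congrFun hv (.inl (.inr (.inr j)))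
  refine h.congr (LinearEquiv.ofInjectiveOfFinrankEq (oddLinePlus k 1) hinj (by simp; ring)) fun v => ?_
  show sumForm _ _ (oddLinePlus k 1 v) = _
  simp [sumForm_apply, oddQ_apply, qfPlus_apply, Cfsg.quadFormPlus, oddLinePlus, Fin.sum_univ_succ]
  field_simp
  ring

theorem piece_even_minus (h2 : (2 : F) ≠ 0) {ν : F} (hν : ¬ IsSquare ν) (k : ℕ) :
    Piece (qfMinus k F 0 (-ν)) (p ^ Nat.clog p (2 * k + 2)) 1 true := by
  have hν0 : -ν ≠ 0 := neg_ne_zero.2 (nonsquare_ne_zero hν)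
  have h := (piece_regular (p := p) h2 (one_ne_zero (α := F)) k).2.prod h2 (oddQ_nd h2 one_ne_zero k)
    (oddQ_nd h2 hν0 0) (piece_one h2 (oddQ_nd h2 hν0 0))
  rw [Nat.lcm_one_right, mul_one] at h
  have hinj : Function.Injective (oddLineMinus F k) := by
    refine LinearMap.funLeft_injective_of_surjective _ _ _ fun x => ?_
    rcases x with (x | x) | x
    · exact ⟨.inl (.inr (.inl x)), rfl⟩
    · exact ⟨.inl (.inr (.inr x)), rfl⟩
    · fin_cases x
      · exact ⟨.inl (.inl ()), rfl⟩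
      · exact ⟨.inr (.inl ()), rfl⟩
  refine h.congr (LinearEquiv.ofInjectiveOfFinrankEq (oddLineMinus F k) hinj (by simp; ring)) fun v => ?_
  show sumForm _ _ (oddLineMinus F k v) = _
  simp [sumForm_apply, oddQ_apply, qfMinus_apply, Cfsg.quadFormMinus, oddLineMinus, LinearMap.funLeft_apply]
  ring

end Cfsg.Agent.SpecOmNine
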