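/-
Every number of the table is an order in `Ω₉(q)` and in `V ⋊ Ω₈⁻(q)`, `q` odd.
* `realise_eight`, `realise_nine`
-/
import Cfsg.Agent.Lib.SpecOmNine.Glue
import Cfsg.Agent.Lib.SpecOmNine.Table

set_option autoImplicit false
set_option linter.unusedSectionVars false

namespace Cfsg.Agent.SpecOmNine

open Module Cfsg.Agent.Orth Cfsg.Agent.Forms

variable {F : Type*} [Field F] [Fintype F] {p : ℕ} [Fact p.Prime] [CharP F p]

theorem coprime_atom {a : Atom} (ha : a.1 ≠ 0) : Nat.Coprime (atomVal (Fintype.card F) a) p := by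
  have hp := (Fact.out : p.Prime)
  have hd : p ∣ Fintype.card F ^ a.1 := by
    obtain ⟨n, -, hn⟩ := FiniteField.card F p
    rw [hn, ← pow_mul]
    exact dvd_pow_self p (Nat.mul_ne_zero n.pos.ne' ha)
  have h1 : 1 ≤ Fintype.card F ^ a.1 := Nat.one_le_pow _ _ Fintype.card_pos
  rw [Nat.coprime_comm, hp.coprime_iff_not_dvd]
  intro h
  apply hp.not_dvd_one
  unfold atomVal at h
  split at h
  · simpa using Nat.dvd_sub h hd
  · have := Nat.dvd_sub hd h
    rwa [show Fintype.card F ^ a.1 - (Fintype.card F ^ a.1 - 1) = 1 by omega] at this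

theorem val_dvd (hq : Odd (Fintype.card F)) {N : Entry} (hN : N ∈ table) {X : ℕ}
    (h1 : rPart (Fintype.card F) N ∣ X) (h2 : p ^ Nat.clog p N.b ∣ X) : val (Fintype.card F) p N ∣ X := by
  refine Nat.Coprime.mul_dvd_of_dvd_of_dvd (Nat.Coprime.pow_right _ ?_) h1 h2
  have hL : Nat.Coprime ((N.atoms.map (atomVal (Fintype.card F))).foldr Nat.lcm 1) p :=
    List.foldrRecOn (motive := fun n => Nat.Coprime n p) _ _ (Nat.coprime_one_left p) fun b hb a ha => by
      obtain ⟨c, hc, rfl⟩ := List.mem_map.1 ha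
      have hc0 := coprime_atom (F := F) (p := p)
        ((show ∀ N' ∈ table, ∀ c' ∈ N'.atoms, c'.1 ≠ 0 by decide) N hN c hc)
      exact Nat.Coprime.coprime_dvd_left (Nat.lcm_dvd_mul _ _) (hc0.mul_left hb)
  unfold rPart
  split
  · split
    · have hp2 : p ≠ 2 := fun h => by
        obtain ⟨n, -, hn⟩ := FiniteField.card F p
        rw [hn, h] at hq
        exact absurd (hq) (Nat.not_odd_iff_even.2 ((Nat.even_pow).2 ⟨even_two, n.pos.ne'⟩))
      exact ((Nat.coprime_primes (Fact.out : p.Prime) Nat.prime_two).2 hp2).symm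
    · rename_i h
      refine Nat.Coprime.coprime_dvd_left (Nat.div_dvd_of_dvd ?_) hL
      obtain ⟨a, ha⟩ := List.exists_mem_of_ne_nil _ h
      exact (even_iff_two_dvd.1 (show Even (atomVal (Fintype.card F) a) by
        have h : Odd (Fintype.card F ^ a.1) := hq.pow
        unfold atomVal
        split
        · exact h.add_one
        · exact Nat.Odd.sub_odd h odd_one)).trans (atomVal_dvd_lcm ha)
  · exact hL

theorem clog_three_le (hp3 : 3 ≤ p) : Nat.clog p 3 ≤ 1 := Nat.clog_le_of_le_pow (by simpa using hp3)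

theorem clog_odd_succ (hp : Odd p) (j : ℕ) : Nat.clog p (2 * j + 1) ≤ Nat.clog p (2 * j) := by
  have h1 : 1 < p := (Fact.out : p.Prime).one_lt
  refine Nat.clog_le_of_le_pow ?_
  have := Nat.le_pow_clog h1 (2 * j)
  obtain ⟨m, hm⟩ : Odd (p ^ Nat.clog p (2 * j)) := hp.pow
  omega

theorem two_dvd_half {q : ℕ} (hq : Odd q) :
    2 ∣ (q - 1) / 2 ∨ 2 ∣ (q + 1) / 2 := by
  obtain ⟨k, rfl⟩ := hq
  rcases Nat.even_or_odd k with ⟨m, rfl⟩ | ⟨m, rfl⟩
  · left; exact ⟨m, by omega⟩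
  · right; exact ⟨m + 1, by omega⟩

theorem rPart_two {q X n : ℕ} {a b : Atom} (ha : atomVal q a ∣ X) (hb : atomVal q b ∣ X) :
    rPart q ⟨[a, b], false, n⟩ ∣ X := by
  simp only [rPart, Bool.false_eq_true, if_false, List.map_cons, List.map_nil, List.foldr_cons, List.foldr_nil]
  exact Nat.lcm_dvd ha (Nat.lcm_dvd hb (one_dvd _))

variable {ν : F}

theorem realise_eight (h2 : (2 : F) ≠ 0) (hν : ¬ IsSquare ν) :
    ∀ N ∈ table, Piece (qfMinus 3 F 0 (-ν)) (val (Fintype.card F) p N) 1 true := by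
  set q := Fintype.card F with hq
  have hp := (Fact.out : p.Prime)
  have hpodd : Odd p := hp.odd_of_ne_two fun h => h2 (by subst h; exact_mod_cast CharP.cast_eq_zero F 2)
  have hp3 : 3 ≤ p := by
    have := hp.two_le
    obtain ⟨k, hk⟩ := hpodd
    omega
  have hqodd : Odd q := Nat.odd_iff.2 (FiniteField.odd_card_of_char_ne_two (ringChar_ne_two h2))
  have hab := aniso_of_nonsquare hν
  have hP : ∀ {d : ℕ}, 1 ≤ d → Piece (qfPlus d F) (q ^ d - 1) (-1) false := fun h => piece_plus h2 h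
  have hM : ∀ m, Piece (qfMinus m F 0 (-ν)) (q ^ (m + 1) + 1) (-1) false := fun m => piece_minus h2 hab m
  have hPh : ∀ {d : ℕ}, 1 ≤ d → Piece (qfPlus d F) ((q ^ d - 1) / 2) 1 false := fun h =>
    (hP h).halve (Good.of_two_ne_zero (qfPlus_nondegenerate _) h2)
      (even_iff_two_dvd.1 (Nat.Odd.sub_odd hqodd.pow odd_one))
  have hMh : ∀ m, Piece (qfMinus m F 0 (-ν)) ((q ^ (m + 1) + 1) / 2) 1 false := fun m =>
    (hM m).halve (Good.of_two_ne_zero (minus_nd hab m) h2) (even_iff_two_dvd.1 hqodd.pow.add_one)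
  have hT0 : Piece (qfMinus 0 F 0 (-ν)) p 1 true := piece_translation (Good.of_two_ne_zero (minus_nd hab 0) h2)
  have hT1 : Piece (qfPlus 1 F) p 1 true := piece_translation (Good.of_two_ne_zero (qfPlus_nondegenerate 1) h2)
  have hb3 : p ^ Nat.clog p 3 ∣ p := by
    conv_rhs => rw [← pow_one p]
    exact pow_dvd_pow p (clog_three_le hp3)
  have h5 : p ^ Nat.clog p 5 ∣ p ^ Nat.clog p (2 * 1 + 2) := pow_dvd_pow p (clog_odd_succ hpodd 2)
  have h7 : p ^ Nat.clog p 7 ∣ p ^ Nat.clog p (2 * 2 + 2) := pow_dvd_pow p (clog_odd_succ hpodd 3)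
  have h9 : p ^ Nat.clog p 9 ∣ p ^ Nat.clog p (2 * 3 + 2) := pow_dvd_pow p (clog_odd_succ hpodd 4)
  have h12 : Piece (qfMinus 3 F 0 (-ν)) (Nat.lcm (p ^ Nat.clog p (2 * 2 + 2)) ((q + 1) / 2)) 1 true := by
    simpa using plus_minus h2 hab (piece_even_plus (p := p) h2 2) (hMh 0)
  have h13 : Piece (qfMinus 3 F 0 (-ν)) (Nat.lcm ((q - 1) / 2) (p ^ Nat.clog p (2 * 2 + 2))) 1 true := by
    simpa using plus_minus h2 hab (hPh le_rfl) (piece_even_minus (p := p) h2 hν 2)
  intro N hN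
  have hN' := hN
  simp only [table, List.mem_cons, List.mem_nil_iff, or_false] at hN
  rcases hN with rfl | rfl | rfl | rfl | rfl | rfl | rfl | rfl | rfl | rfl | rfl | rfl | rfl | rfl | rfl
  · exact (hMh 3).allow.mono (val_dvd hqodd hN' (by simp [rPart, atomVal, ← hq]) (by simp))
  · have h := (plus_minus h2 hab (hP one_le_two) (hM 1)).allow
    norm_num at h
    refine h.mono (val_dvd hqodd hN' ?_ (by simp))
    refine rPart_two ?_ ?_ <;> simp [atomVal, ← hq, Nat.dvd_lcm_left, Nat.dvd_lcm_right]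
  · have h := (plus_minus h2 hab (hP le_rfl) (hM 2)).allow
    norm_num at h
    refine h.mono (val_dvd hqodd hN' ?_ (by simp))
    refine rPart_two ?_ ?_ <;> simp [atomVal, ← hq, Nat.dvd_lcm_left, Nat.dvd_lcm_right]
  · have h := (plus_minus h2 hab (hP (show 1 ≤ 3 by norm_num)) (hM 0)).allow
    norm_num at h
    refine h.mono (val_dvd hqodd hN' ?_ (by simp))
    refine rPart_two ?_ ?_ <;> simp [atomVal, ← hq, Nat.dvd_lcm_left, Nat.dvd_lcm_right]
  · have h := plus_minus h2 hab hT1 (hMh 2)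
    norm_num at h
    refine h.mono (val_dvd hqodd hN' ?_ (hb3.trans (Nat.dvd_lcm_left _ _)))
    simpa [rPart, atomVal, ← hq] using Nat.dvd_lcm_right p ((q ^ 3 + 1) / 2)
  · have h := plus_minus h2 hab (hPh (show 1 ≤ 3 by norm_num)) hT0
    norm_num at h
    refine h.mono (val_dvd hqodd hN' ?_ (hb3.trans (Nat.dvd_lcm_right _ _)))
    simpa [rPart, atomVal, ← hq] using Nat.dvd_lcm_left ((q ^ 3 - 1) / 2) p
  · have h := plus_minus h2 hab (minus_minus h2 hν (hM 0) hT0) (hM 1)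
    norm_num at h
    refine h.mono (val_dvd hqodd hN' ?_ ((hb3.trans (Nat.dvd_lcm_right _ _)).trans (Nat.dvd_lcm_left _ _)))
    refine rPart_two ?_ ?_ <;> simp only [atomVal, Bool.false_eq_true, if_false, if_true, pow_one, ← hq]
    exacts [(Nat.dvd_lcm_right _ _), ((Nat.dvd_lcm_left _ _).trans (Nat.dvd_lcm_left _ _))]
  · have h := plus_minus h2 hab hT1 (plus_minus h2 hab (hP le_rfl) (hM 1))
    norm_num at h
    refine h.mono (val_dvd hqodd hN' ?_ (hb3.trans (Nat.dvd_lcm_left _ _)))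
    refine rPart_two ?_ ?_ <;> simp only [atomVal, Bool.false_eq_true, if_false, if_true, pow_one, ← hq]
    exacts [((Nat.dvd_lcm_right _ _).trans (Nat.dvd_lcm_right _ _)), ((Nat.dvd_lcm_left _ _).trans (Nat.dvd_lcm_right _ _))]
  · have h := plus_minus h2 hab (hP one_le_two) (plus_minus h2 hab (hP le_rfl) hT0)
    norm_num at h
    refine h.mono (val_dvd hqodd hN' ?_ ((hb3.trans (Nat.dvd_lcm_right _ _)).trans (Nat.dvd_lcm_right _ _)))
    refine rPart_two ?_ ?_ <;> simp only [atomVal, Bool.false_eq_true, if_false, if_true, pow_one, ← hq]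
    exacts [(Nat.dvd_lcm_left _ _), ((Nat.dvd_lcm_left _ _).trans (Nat.dvd_lcm_right _ _))]
  · have h := plus_minus h2 hab (piece_even_plus (p := p) h2 1) (hMh 1)
    norm_num at h
    refine h.mono (val_dvd hqodd hN' ?_ (h5.trans (Nat.dvd_lcm_left _ _)))
    simpa [rPart, atomVal, ← hq] using Nat.dvd_lcm_right (p ^ Nat.clog p 4) ((q ^ 2 + 1) / 2)
  · have h := plus_minus h2 hab (hP le_rfl) (plus_minus h2 hab (piece_even_plus (p := p) h2 1) (hM 0))
    norm_num at h
    refine h.mono (val_dvd hqodd hN' ?_ ((h5.trans (Nat.dvd_lcm_left _ _)).trans (Nat.dvd_lcm_right _ _)))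
    refine rPart_two ?_ ?_ <;> simp only [atomVal, Bool.false_eq_true, if_false, if_true, pow_one, ← hq]
    exacts [((Nat.dvd_lcm_right _ _).trans (Nat.dvd_lcm_right _ _)), (Nat.dvd_lcm_left _ _)]
  · refine h12.mono (val_dvd hqodd hN' ?_ (h7.trans (Nat.dvd_lcm_left _ _)))
    simpa [rPart, atomVal, ← hq] using Nat.dvd_lcm_right (p ^ Nat.clog p 6) ((q + 1) / 2)
  · refine h13.mono (val_dvd hqodd hN' ?_ (h7.trans (Nat.dvd_lcm_right _ _)))
    simpa [rPart, atomVal, ← hq] using Nat.dvd_lcm_left ((q - 1) / 2) (p ^ Nat.clog p 6)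
  · rcases two_dvd_half hqodd with h | h
    · exact h13.mono (val_dvd hqodd hN' (by simpa [rPart] using h.trans (Nat.dvd_lcm_left _ _))
        (h7.trans (Nat.dvd_lcm_right _ _)))
    · exact h12.mono (val_dvd hqodd hN' (by simpa [rPart] using h.trans (Nat.dvd_lcm_right _ _))
        (h7.trans (Nat.dvd_lcm_left _ _)))
  · exact (piece_even_minus (p := p) h2 hν 3).mono (val_dvd hqodd hN' (by simp [rPart]) h9)

theorem realise_nine (h2 : (2 : F) ≠ 0) (hν : ¬ IsSquare ν) :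
    ∀ N ∈ table, Piece (oddQ (1 : F) 4) (val (Fintype.card F) p N) 1 false := by
  set q := Fintype.card F with hq
  have hp := (Fact.out : p.Prime)
  have hν0 := nonsquare_ne_zero hν
  have hνν : ν * ν ≠ 0 := mul_ne_zero hν0 hν0
  have hqodd : Odd q := Nat.odd_iff.2 (FiniteField.odd_card_of_char_ne_two (ringChar_ne_two h2))
  have hab := aniso_of_nonsquare hν
  have hP : ∀ {d : ℕ}, 1 ≤ d → Piece (qfPlus d F) (q ^ d - 1) (-1) false := fun h => piece_plus h2 h
  have hM : ∀ m, Piece (qfMinus m F 0 (-ν)) (q ^ (m + 1) + 1) (-1) false := fun m => piece_minus h2 hab m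
  have hPh : ∀ {d : ℕ}, 1 ≤ d → Piece (qfPlus d F) ((q ^ d - 1) / 2) 1 false := fun h =>
    (hP h).halve (Good.of_two_ne_zero (qfPlus_nondegenerate _) h2)
      (even_iff_two_dvd.1 (Nat.Odd.sub_odd hqodd.pow odd_one))
  have hMh : ∀ m, Piece (qfMinus m F 0 (-ν)) ((q ^ (m + 1) + 1) / 2) 1 false := fun m =>
    (hM m).halve (Good.of_two_ne_zero (minus_nd hab m) h2) (even_iff_two_dvd.1 hqodd.pow.add_one)
  have hR : ∀ {δ : F}, δ ≠ 0 → ∀ k, Piece (oddQ δ k) (p ^ Nat.clog p (2 * k + 1)) 1 false := fun hδ k =>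
    (piece_regular (p := p) h2 hδ k).1
  have lift : ∀ {n : ℕ}, Piece (qfMinus 3 F 0 (-ν)) n 1 false → Piece (oddQ (1 : F) 4) n 1 false := fun h => by
    have := minus_odd (k := 0) h2 hν hν0 h (piece_one h2 (oddQ_nd h2 hν0 0))
    simpa [hν0] using this
  have h12 : Piece (oddQ (1 : F) 4) (Nat.lcm ((q + 1) / 2) (p ^ Nat.clog p 7)) 1 false := by
    simpa [hν0] using minus_odd h2 hν hν0 (hMh 0) (hR hν0 3)
  have h13 : Piece (oddQ (1 : F) 4) (Nat.lcm ((q - 1) / 2) (p ^ Nat.clog p 7)) 1 false := by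
    simpa using plus_odd h2 one_ne_zero (hPh le_rfl) (hR (one_ne_zero (α := F)) 3)
  intro N hN
  have hN' := hN
  simp only [table, List.mem_cons, List.mem_nil_iff, or_false] at hN
  rcases hN with rfl | rfl | rfl | rfl | rfl | rfl | rfl | rfl | rfl | rfl | rfl | rfl | rfl | rfl | rfl
  · exact (lift (hMh 3)).mono (val_dvd hqodd hN' (by simp [rPart, atomVal, ← hq]) (by simp))
  · have h := plus_minus h2 hab (hP one_le_two) (hM 1)
    norm_num at h
    refine (lift h).mono (val_dvd hqodd hN' ?_ (by simp))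
    refine rPart_two ?_ ?_ <;> simp [atomVal, ← hq, Nat.dvd_lcm_left, Nat.dvd_lcm_right]
  · have h := plus_minus h2 hab (hP le_rfl) (hM 2)
    norm_num at h
    refine (lift h).mono (val_dvd hqodd hN' ?_ (by simp))
    refine rPart_two ?_ ?_ <;> simp [atomVal, ← hq, Nat.dvd_lcm_left, Nat.dvd_lcm_right]
  · have h := plus_minus h2 hab (hP (show 1 ≤ 3 by norm_num)) (hM 0)
    norm_num at h
    refine (lift h).mono (val_dvd hqodd hN' ?_ (by simp))
    refine rPart_two ?_ ?_ <;> simp [atomVal, ← hq, Nat.dvd_lcm_left, Nat.dvd_lcm_right]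
  · have h := minus_odd h2 hν hν0 (hMh 2) (hR hν0 1)
    norm_num [hν0] at h
    refine h.mono (val_dvd hqodd hN' ?_ (Nat.dvd_lcm_right _ _))
    simpa [rPart, atomVal, ← hq] using Nat.dvd_lcm_left ((q ^ 3 + 1) / 2) (p ^ Nat.clog p 3)
  · have h := plus_odd h2 one_ne_zero (hPh (show 1 ≤ 3 by norm_num)) (hR (one_ne_zero (α := F)) 1)
    norm_num at h
    refine h.mono (val_dvd hqodd hN' ?_ (Nat.dvd_lcm_right _ _))
    simpa [rPart, atomVal, ← hq] using Nat.dvd_lcm_left ((q ^ 3 - 1) / 2) (p ^ Nat.clog p 3)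
  · have h := minus_odd h2 hν (show ν * ν / ν ≠ 0 from div_ne_zero hνν hν0) (hM 1) (minus_odd h2 hν hνν (hM 0) (hR hνν 1))
    norm_num [hν0] at h
    refine h.mono (val_dvd hqodd hN' ?_ ((Nat.dvd_lcm_right _ _).trans (Nat.dvd_lcm_right _ _)))
    refine rPart_two ?_ ?_ <;> simp only [atomVal, Bool.false_eq_true, if_false, if_true, pow_one, ← hq]
    exacts [(Nat.dvd_lcm_left _ _), ((Nat.dvd_lcm_left _ _).trans (Nat.dvd_lcm_right _ _))]
  · have h := plus_odd h2 (show ν / ν ≠ 0 from div_ne_zero hν0 hν0) (hP le_rfl) (minus_odd h2 hν hν0 (hM 1) (hR hν0 1))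
    norm_num [hν0] at h
    refine h.mono (val_dvd hqodd hN' ?_ ((Nat.dvd_lcm_right _ _).trans (Nat.dvd_lcm_right _ _)))
    refine rPart_two ?_ ?_ <;> simp only [atomVal, Bool.false_eq_true, if_false, if_true, pow_one, ← hq]
    exacts [((Nat.dvd_lcm_left _ _).trans (Nat.dvd_lcm_right _ _)), (Nat.dvd_lcm_left _ _)]
  · have h := plus_odd h2 one_ne_zero (hP one_le_two) (plus_odd h2 one_ne_zero (hP le_rfl) (hR (one_ne_zero (α := F)) 1))
    norm_num at h
    refine h.mono (val_dvd hqodd hN' ?_ ((Nat.dvd_lcm_right _ _).trans (Nat.dvd_lcm_right _ _)))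
    refine rPart_two ?_ ?_ <;> simp only [atomVal, Bool.false_eq_true, if_false, if_true, pow_one, ← hq]
    exacts [(Nat.dvd_lcm_left _ _), ((Nat.dvd_lcm_left _ _).trans (Nat.dvd_lcm_right _ _))]
  · have h := minus_odd h2 hν hν0 (hMh 1) (hR hν0 2)
    norm_num [hν0] at h
    refine h.mono (val_dvd hqodd hN' ?_ (Nat.dvd_lcm_right _ _))
    simpa [rPart, atomVal, ← hq] using Nat.dvd_lcm_left ((q ^ 2 + 1) / 2) (p ^ Nat.clog p 5)
  · have h := plus_odd h2 (show ν / ν ≠ 0 from div_ne_zero hν0 hν0) (hP le_rfl) (minus_odd h2 hν hν0 (hM 0) (hR hν0 2))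
    norm_num [hν0] at h
    refine h.mono (val_dvd hqodd hN' ?_ ((Nat.dvd_lcm_right _ _).trans (Nat.dvd_lcm_right _ _)))
    refine rPart_two ?_ ?_ <;> simp only [atomVal, Bool.false_eq_true, if_false, if_true, pow_one, ← hq]
    exacts [((Nat.dvd_lcm_left _ _).trans (Nat.dvd_lcm_right _ _)), (Nat.dvd_lcm_left _ _)]
  · refine h12.mono (val_dvd hqodd hN' ?_ (Nat.dvd_lcm_right _ _))
    simpa [rPart, atomVal, ← hq] using Nat.dvd_lcm_left ((q + 1) / 2) (p ^ Nat.clog p 7)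
  · refine h13.mono (val_dvd hqodd hN' ?_ (Nat.dvd_lcm_right _ _))
    simpa [rPart, atomVal, ← hq] using Nat.dvd_lcm_left ((q - 1) / 2) (p ^ Nat.clog p 7)
  · rcases two_dvd_half hqodd with h | h
    · exact h13.mono (val_dvd hqodd hN' (by simpa [rPart] using h.trans (Nat.dvd_lcm_left _ _))
        (Nat.dvd_lcm_right _ _))
    · exact h12.mono (val_dvd hqodd hN' (by simpa [rPart] using h.trans (Nat.dvd_lcm_left _ _))
        (Nat.dvd_lcm_right _ _))
  · exact (hR (one_ne_zero (α := F)) 4).mono (val_dvd hqodd hN' (by simp [rPart]) dvd_rfl)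

end Cfsg.Agent.SpecOmNine
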