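/-
The element orders of `Ω₉(q)` and of `V ⋊ Ω₈⁻(q)`, `q` odd: both are the divisors of the table.
* `range_orderOf_eq`, `pomega_spec`, `semidirect_spec`
-/
import Cfsg.Agent.Lib.SpecOmNine.Bound
import Cfsg.Agent.Lib.SpecOmNine.Piece
import Cfsg.Agent.Lib.Orth.Order

set_option autoImplicit false
set_option linter.unusedSectionVars false

namespace Cfsg.Agent.SpecOmNine

open Cfsg Module Cfsg.Agent.Orth Cfsg.Agent.SpecSpEight

/-- Two groups whose orders are the divisors of the same numbers have the same orders. -/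
theorem range_orderOf_eq {G H : Type*} [Group G] [Group H] {ι : Type*} (S : ι → ℕ)
    (hG : ∀ x : G, ∃ i, orderOf x ∣ S i) (hG' : ∀ i, ∃ x : G, orderOf x ≠ 0 ∧ S i ∣ orderOf x)
    (hH : ∀ x : H, ∃ i, orderOf x ∣ S i) (hH' : ∀ i, ∃ x : H, orderOf x ≠ 0 ∧ S i ∣ orderOf x) :
    Set.range (orderOf : G → ℕ) = Set.range (orderOf : H → ℕ) := by
  ext n
  constructor
  · rintro ⟨x, rfl⟩
    obtain ⟨i, hi⟩ := hG x
    obtain ⟨y, hy, hd⟩ := hH' i
    exact ⟨_, orderOf_pow_orderOf_div hy (hi.trans hd)⟩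
  · rintro ⟨x, rfl⟩
    obtain ⟨i, hi⟩ := hH x
    obtain ⟨y, hy, hd⟩ := hG' i
    exact ⟨_, orderOf_pow_orderOf_div hy (hi.trans hd)⟩

variable {F : Type*} [Field F] [Fintype F] {p : ℕ} [Fact p.Prime] [CharP F p]
variable {ι : Type} [Fintype ι] [DecidableEq ι] {Q : QuadraticForm F (ι → F)}

theorem center_omega_bot_of_odd (hG : Good Q) (h2 : (2 : F) ≠ 0) (hn : Fintype.card ι = 9) :
    Subgroup.center ↥(Omega F ⇑Q) = ⊥ := by
  refine center_omega_eq_bot hG.nd (by omega) (eichGen_le_omega hG.nd (by omega) (.inr (by omega))) (.inl fun h => ?_)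
  have := ((mem_omega_iff hG _).1 h).1
  rw [dick_negOne Q h2, hn] at this
  norm_num at this

theorem pomega_spec (hG : Good Q) (h2 : (2 : F) ≠ 0) (hn : Fintype.card ι = 9)
    (hR : ∀ N ∈ table, Piece Q (val (Fintype.card F) p N) 1 false) :
    (∀ x : POmega F ⇑Q, ∃ N : {N // N ∈ table}, orderOf x ∣ val (Fintype.card F) p N.1) ∧
    (∀ N : {N // N ∈ table}, ∃ x : POmega F ⇑Q, orderOf x ≠ 0 ∧ val (Fintype.card F) p N.1 ∣ orderOf x) := by
  have hc := center_omega_bot_of_odd hG h2 hn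
  have hinj : Function.Injective (QuotientGroup.mk' (Subgroup.center ↥(Omega F ⇑Q))) := by
    rw [← MonoidHom.ker_eq_bot_iff, QuotientGroup.ker_mk', hc]
  constructor
  · intro x
    obtain ⟨g, rfl⟩ := QuotientGroup.mk'_surjective _ x
    rw [orderOf_injective _ hinj, ← Subgroup.orderOf_coe]
    obtain ⟨hd, hs⟩ := (mem_omega_iff hG _).1 g.2
    obtain ⟨N, hN, h⟩ := exists_bound_nine (p := p) hG h2 g.1 hd hs hn.le
    exact ⟨⟨N, hN⟩, orderOf_dvd_of_pow_eq_one h⟩
  · rintro ⟨N, hN⟩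
    obtain ⟨g, v, hv, hd, hs, hdvd⟩ := hR N hN
    refine ⟨QuotientGroup.mk' _ ⟨g, (mem_omega_iff hG g).2 ⟨hd, hs⟩⟩, ?_, ?_⟩
    · rw [orderOf_injective _ hinj, ← Subgroup.orderOf_coe]
      exact (orderOf_pos g).ne'
    · rw [orderOf_injective _ hinj, ← Subgroup.orderOf_coe]
      rwa [hv rfl, orderOf_aff_zero, orderOf_lin] at hdvd

/-- The action of `Ω(Q)` on the multiplicative copy of the space. -/
noncomputable abbrev actHom (Q : (ι → F) → F) :
    ↥(Omega F Q) →* MulAut (Multiplicative (ι → F)) :=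
  (MulAutMultiplicative (ι → F)).symm.toMonoidHom.comp
    ((DistribMulAction.toAddAut (LinearMap.GeneralLinearGroup F (ι → F)) (ι → F)).comp
      (Matrix.GeneralLinearGroup.toLin.toMonoidHom.comp
        ((isometryGroup F Q).subtype.comp (Omega F Q).subtype)))

theorem actHom_apply (g : ↥(Omega F ⇑Q)) (n : Multiplicative (ι → F)) :
    Multiplicative.toAdd (actHom ⇑Q g n) = ap (g : IsoGrp Q) (Multiplicative.toAdd n) := by
  rw [ap_apply]
  rfl

/-- The semidirect product as affine maps. -/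
noncomputable def toPerm (Q : QuadraticForm F (ι → F)) :
    Multiplicative (ι → F) ⋊[actHom ⇑Q] ↥(Omega F ⇑Q) →* Equiv.Perm (ι → F) where
  toFun x := aff (lin (x.right : IsoGrp Q)) (Multiplicative.toAdd x.left)
  map_one' := by simp [lin_one, aff_one]
  map_mul' x y := by
    rw [aff_mul, ← lin_mul, lin_apply, SemidirectProduct.mul_left, SemidirectProduct.mul_right, toAdd_mul,
      actHom_apply, add_comm]
    rfl

theorem toPerm_injective : Function.Injective (toPerm Q) := by
  intro x y h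
  obtain ⟨h1, h2⟩ := aff_inj h
  refine SemidirectProduct.ext (Multiplicative.toAdd.injective h2) (Subtype.ext ?_)
  exact (Forms.isometryGroupEquiv ⇑Q).injective (Subtype.ext h1)

theorem semidirect_spec (hG : Good Q) (h2 : (2 : F) ≠ 0) (hn : Fintype.card ι = 8)
    (hR : ∀ N ∈ table, Piece Q (val (Fintype.card F) p N) 1 true) :
    (∀ x : Multiplicative (ι → F) ⋊[actHom ⇑Q] ↥(Omega F ⇑Q),
      ∃ N : {N // N ∈ table}, orderOf x ∣ val (Fintype.card F) p N.1) ∧
    (∀ N : {N // N ∈ table}, ∃ x : Multiplicative (ι → F) ⋊[actHom ⇑Q] ↥(Omega F ⇑Q),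
      orderOf x ≠ 0 ∧ val (Fintype.card F) p N.1 ∣ orderOf x) := by
  classical
  constructor
  · intro x
    obtain ⟨hd, hs⟩ := (mem_omega_iff hG _).1 x.right.2
    obtain ⟨N, hN, h⟩ := exists_bound_eight (p := p) hG h2 (x.right : IsoGrp Q) hd hs hn
    refine ⟨⟨N, hN⟩, orderOf_dvd_of_pow_eq_one (toPerm_injective (Q := Q) ?_)⟩
    have hpow : ∀ i v, (lin (x.right : IsoGrp Q) ^ i) v = (ap (x.right : IsoGrp Q) ^ i) v := by
      intro i
      induction i with
      | zero => simp
      | succ i ih => intro v; rw [pow_succ, pow_succ, LinearEquiv.mul_apply, Module.End.mul_apply, lin_apply, ih]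
    have hsum : ∀ v, ∑ i ∈ Finset.range (val (Fintype.card F) p N), (lin (x.right : IsoGrp Q) ^ i) v = 0 := fun v => by
      have := congrArg (fun T : Module.End F (ι → F) => T v) h
      simp only [LinearMap.sum_apply, LinearMap.zero_apply] at this
      exact Eq.trans (Finset.sum_congr rfl fun i _ => hpow i v) this
    rw [map_pow, map_one]
    show aff _ _ ^ _ = 1
    rw [aff_pow, hsum, ← aff_one (F := F)]
    congr 1
    refine LinearEquiv.ext fun v => sub_eq_zero.1 ?_
    set g := lin (x.right : IsoGrp Q)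
    have h1 := hsum (g v)
    have hshift : ∑ i ∈ Finset.range (val (Fintype.card F) p N), (g ^ i) (g v) =
        ∑ i ∈ Finset.range (val (Fintype.card F) p N), (g ^ (i + 1)) v :=
      Finset.sum_congr rfl fun i _ => by rw [pow_succ, LinearEquiv.mul_apply]
    rw [hshift] at h1
    have h3 := Finset.sum_range_sub (fun i => (g ^ i) v) (val (Fintype.card F) p N)
    rw [Finset.sum_sub_distrib, h1, hsum, sub_zero] at h3
    simpa using h3.symm
  · rintro ⟨N, hN⟩
    obtain ⟨g, v, -, hd, hs, hdvd⟩ := hR N hN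
    refine ⟨⟨Multiplicative.ofAdd v, ⟨g, (mem_omega_iff hG g).2 ⟨hd, hs⟩⟩⟩, ?_, ?_⟩
    · rw [← orderOf_injective (toPerm Q) toPerm_injective]
      exact (orderOf_pos _).ne'
    · rw [← orderOf_injective (toPerm Q) toPerm_injective]
      exact hdvd

end Cfsg.Agent.SpecOmNine
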